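import Groth.Prelude.Def_PtDefo
import Groth.Agent.S1321
import Groth.Agent.SGA7.K565.DefCat

/-!
# Deformations of smooth schemes are smooth, and sections of them lift
-/

set_option autoImplicit false

universe u

open CategoryTheory CategoryTheory.Limits AlgebraicGeometry ArtFun ArtFun.Art

namespace K819.SectLift

/-- Lifting a section of a smooth morphism to a spectrum of a ring over a nilpotent ideal, the closed part being one point. -/
theorem exists_section {R K : CommRingCat.{u}} (r : R ⟶ K) (hr : Function.Surjective r.hom)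
    (hn : IsNilpotent (RingHom.ker r.hom)) [Subsingleton (Spec K)] [Nonempty (Spec K)] {Y : Scheme.{u}} (f : Y ⟶ Spec R) [Smooth f]
    (s : Spec K ⟶ Y) (hs : s ≫ f = Spec.map r) :
    ∃ σ : Spec R ⟶ Y, σ ≫ f = 𝟙 _ ∧ Spec.map r ≫ σ = s := by
  obtain ⟨z⟩ := ‹Nonempty (Spec K)›
  obtain ⟨U, hU, hzU, -⟩ := exists_isAffineOpen_mem_and_subset (X := Y) (x := s z) (U := ⊤) trivial
  let B := Γ(Y, U)
  let φ : R ⟶ B := Spec.preimage (hU.fromSpec ≫ f)
  have hφ : Spec.map φ = hU.fromSpec ≫ f := Spec.map_preimage _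
  have hsm : Smooth (Spec.map φ) := by rw [hφ]; infer_instance
  have hsm' : φ.hom.Smooth := (HasRingHomProperty.Spec_iff (P := @Smooth)).1 hsm
  have hrange : Set.range s ⊆ Set.range hU.fromSpec := by
    rintro _ ⟨w, rfl⟩
    rw [Subsingleton.elim w z, hU.range_fromSpec]
    exact hzU
  let t : Spec K ⟶ Spec B := IsOpenImmersion.lift hU.fromSpec s hrange
  have ht : t ≫ hU.fromSpec = s := IsOpenImmersion.lift_fac _ _ _
  let ψ : B ⟶ K := Spec.preimage t
  have hψ : Spec.map ψ = t := Spec.map_preimage _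
  have hc : φ ≫ ψ = r := by
    apply Spec.map_injective
    rw [Spec.map_comp, hψ, hφ, ← Category.assoc, ht, hs]
  algebraize [φ.hom, r.hom]
  have : Algebra.FormallySmooth R B := inferInstance
  let g : R →ₐ[R] K := Algebra.ofId R K
  let ψ' : B →ₐ[R] K := { ψ.hom with commutes' := fun a => congrArg (fun q => q.hom a) hc }
  let v := Algebra.FormallySmooth.liftOfSurjective ψ' g hr hn
  let v' : B ⟶ R := CommRingCat.ofHom v.toRingHom
  have hv1 : φ ≫ v' = 𝟙 R := by
    ext a
    exact v.commutes a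
  have hv2 : v' ≫ r = ψ := by
    ext b
    exact Algebra.FormallySmooth.liftOfSurjective_apply ψ' g hr hn b
  refine ⟨Spec.map v' ≫ hU.fromSpec, ?_, ?_⟩
  · rw [Category.assoc, ← hφ, ← Spec.map_comp, hv1, Spec.map_id]
  · rw [← Category.assoc, ← Spec.map_comp, hv2, hψ, ht]

variable {Λ k : Type u} [CommRing Λ] [Field k] [Algebra Λ k] {X : Scheme.{u}} {x : X ⟶ specPt k} {A : Art Λ k}

/-- A deformation of a smooth scheme is smooth. -/
theorem smooth_f [Smooth x] (ξ : ArtFun.DefSch (Λ := Λ) X x A) : Smooth ξ.f := by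
  have hfl : Flat (ξ.f ≫ 𝟙 _) := by rw [Category.comp_id]; infer_instance
  refine (Groth.Agent.S1321.result ξ.i (specRes A) (specRes A) x ξ.f (𝟙 _) (𝟙 _)
    (K565.DefCat.isFiniteOrderThickening_specRes A) ?_ (IsPullback.of_vert_isIso ⟨by simp⟩) ξ.i_f).1 inferInstance
  rw [Category.comp_id, Category.comp_id]
  exact ξ.isPullback

theorem exists_sect [Smooth x] (ξ : ArtFun.DefSch (Λ := Λ) X x A) (p : specPt k ⟶ X) (hp : p ≫ x = 𝟙 _) :
    ∃ σ : spec A ⟶ ξ.total, σ ≫ ξ.f = 𝟙 _ ∧ p ≫ ξ.i = specRes A ≫ σ := by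
  have := smooth_f ξ
  have hker : IsNilpotent (RingHom.ker A.res.toRingHom) := by
    have h : RingHom.ker A.res.toRingHom = IsLocalRing.maximalIdeal A := by
      ext a
      rw [Art.mem_maximalIdeal_iff]
      rfl
    rw [h]
    exact K565.ArtTools.isNilpotent_maximalIdeal A
  have h1 : Subsingleton (Spec (CommRingCat.of k)) := inferInstanceAs (Subsingleton (PrimeSpectrum k))
  have h2 : Nonempty (Spec (CommRingCat.of k)) := inferInstanceAs (Nonempty (PrimeSpectrum k))
  obtain ⟨σ, h3, h4⟩ := exists_section (CommRingCat.ofHom A.res.toRingHom) A.res_surjective hker ξ.f (p ≫ ξ.i)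
    (by rw [Category.assoc, ξ.i_f, ← Category.assoc, hp, Category.id_comp])
  exact ⟨σ, h3, h4.symm⟩

/-- Forgetting the sections is surjective on deformations of a smooth scheme. -/
theorem forgetPts_app_surjective [Smooth x] {ι : Type u} (p : ι → (specPt k ⟶ X)) (hp : ∀ j, p j ≫ x = 𝟙 _) (A : Art Λ k) :
    Function.Surjective ((PtDefo.forgetPts (Λ := Λ) X x p).app A) := by
  intro z
  obtain ⟨ξ, rfl⟩ := Quotient.exists_rep z
  choose σ h1 h2 using fun j => exists_sect ξ (p j) (hp j)
  exact ⟨PtDefo.DefSch.cl { ξ with sect := σ, sect_f := h1, pt_sect := h2 }, rfl⟩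

end K819.SectLift
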