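import Groth.Agent.PtDefo.K819.TwistCls

/-!
# The class of a pointed thickening relative to another one

`PCls B a b c`: the class in `H¹(X, G)` of `b` relative to `a`, for locally isomorphic pointed thickenings.
-/

set_option autoImplicit false
universe u

open CategoryTheory CategoryTheory.Limits AlgebraicGeometry Opposite TopologicalSpace
open Groth.Agent.Sga67.Sec (Sec res resO res_res resO_resO res_self resO_self res_smul
  eq_of_locally eqO_of_locally)
open Groth.Agent.Fga.Torsor
open K696.Base K696.Thk K679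

namespace K819

variable {X₀ S : Scheme.{u}} {p₀ : X₀ ⟶ S} {M : X₀.Modules} {P : PtDat p₀ M}
  {X : TopCat.{u}} {e : X ≃ₜ X₀} {G : CohTop.Ab X} (B : PBand P e G)

/-- The presheaf of isomorphisms. -/
def parr (e : X ≃ₜ X₀) (a b : POb P) : (Opens X)ᵒᵖ ⥤ Type u where
  obj U := PArr a b (e.opensCongr U.unop)
  map {U V} h := TypeCat.ofHom fun f => f.rs (e.opensCongr.monotone h.unop.le)

/-- The difference operation on the presheaf of isomorphisms. -/
noncomputable def parrD (a b : POb P) : Diff (parr e a b) G.obj where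
  d {U} f g := (B.β U.unop).symm (PArr.diff f g)
  d_add {U} f g h := by
    rw [← map_add]
    exact congrArg (B.β U.unop).symm (PArr.diff_add f g h)
  map_d {U V} h f g := by
    apply (B.β V.unop).injective
    refine (B.nat h.unop.le _).trans ?_
    refine (congrArg (PDer.rs P _) ((B.β U.unop).apply_symm_apply _)).trans ?_
    refine Eq.trans ?_ ((B.β V.unop).apply_symm_apply _).symm
    exact PArr.rs_diff f g _

/-- The class of `b` relative to `a`. -/
def PCls (a b : POb P) (c : CohTop.H G 1) : Prop :=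
  IsCls (X := (⊤ : Opens X)) isTerminalTop (parrD B a b) c

/-- Locally isomorphic. -/
def LocIso (a b : POb P) : Prop := ∀ x : X₀, ∃ U : X₀.Opens, x ∈ U ∧ Nonempty (PArr a b U)

theorem LocIso.refl (a : POb P) : LocIso a a := fun _ => ⟨⊤, trivial, ⟨PArr.one a _⟩⟩

theorem LocIso.symm {a b : POb P} (h : LocIso a b) : LocIso b a := fun x => by
  obtain ⟨U, hU, ⟨f⟩⟩ := h x
  exact ⟨U, hU, ⟨f.symm⟩⟩

theorem LocIso.trans {a b c : POb P} (h : LocIso a b) (h' : LocIso b c) : LocIso a c := fun x => by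
  obtain ⟨U, hU, ⟨f⟩⟩ := h x
  obtain ⟨U', hU', ⟨g⟩⟩ := h' x
  exact ⟨U ⊓ U', ⟨hU, hU'⟩, ⟨(f.rs inf_le_left).comp (g.rs inf_le_right)⟩⟩

theorem LocIso.locNonempty {a b : POb P} (h : LocIso a b) :
    LocNonempty (Opens.grothendieckTopology X) (parr e a b) (⊤ : Opens X) := by
  refine ⟨{ arrows := fun V _ => Nonempty (PArr a b (e.opensCongr V))
            downward_closed := fun {V W _} ⟨f⟩ g => ⟨f.rs (e.opensCongr.monotone g.le)⟩ }, ?_, fun V f h => h⟩
  intro x _
  obtain ⟨U, hxU, hU⟩ := h (e x)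
  refine ⟨e.opensCongr.symm U, homOfLE le_top, ?_, hxU⟩
  change Nonempty (PArr a b (e.opensCongr (e.opensCongr.symm U)))
  rw [e.opensCongr.apply_symm_apply]
  exact hU

theorem exists_pcls {a b : POb P} (h : LocIso a b) : ∃ c, PCls B a b c :=
  exists_isCls (X := (⊤ : Opens X)) isTerminalTop (parrD B a b) h.locNonempty

theorem PCls.unique {B : PBand P e G} {a b : POb P} (h : LocIso a b) {c c' : CohTop.H G 1} (hc : PCls B a b c)
    (hc' : PCls B a b c') : c = c' :=
  IsCls.unique _ h.locNonempty hc hc'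

theorem cls_iff {ι : Type u} (ob : ι → POb P)
    (hloc : ∀ (i j : ι) (x : X₀), ∃ U : X₀.Opens, x ∈ U ∧ Nonempty (PArr (ob i) (ob j) U)) (i j : ι)
    (c : CohTop.H G 1) : GrbCls.Cls (pgrb B ob hloc) i j c ↔ PCls B (ob i) (ob j) c := Iff.rfl

/-- Pull-back of differences along a map of presheaves of sets. -/
theorem isCls_of_map {T T' : (Opens X)ᵒᵖ ⥤ Type u} {G' : CohTop.Ab X} {D : Diff T G'.obj} {D' : Diff T' G'.obj}
    {c : CohTop.H G' 1} (h : IsCls (X := (⊤ : Opens X)) isTerminalTop D' c) (φ : T ⟶ T')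
    (hφ : ∀ {U : (Opens X)ᵒᵖ} (a b : T.obj U), D'.d (φ.app U a) (φ.app U b) = D.d a b) :
    IsCls (X := (⊤ : Opens X)) isTerminalTop D c := by
  have h1 := h.pull _ φ
  have h2 : D'.pull φ = D := by
    obtain ⟨d, hd, hd'⟩ := D
    have h3 : @Diff.d _ _ _ _ (D'.pull φ) = @d := by
      funext U a b
      exact hφ a b
    cases h3
    rfl
  rw [h2] at h1
  exact h1

/-- A morphism from a torsor to the torsor of isomorphisms computes the class. -/
theorem pcls_of_map {a b : POb P} {T : (Opens X)ᵒᵖ ⥤ Type u} (D : Diff T G.obj)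
    (hT : LocNonempty (Opens.grothendieckTopology X) T (⊤ : Opens X)) (h : LocIso a b) {c : CohTop.H G 1}
    (hc : IsCls (X := (⊤ : Opens X)) isTerminalTop D c) (φ : T ⟶ parr e a b)
    (hφ : ∀ {U : (Opens X)ᵒᵖ} (r s : T.obj U), (parrD B a b).d (φ.app U r) (φ.app U s) = D.d r s) :
    PCls B a b c := by
  obtain ⟨c', hc'⟩ := exists_pcls B h
  rw [IsCls.unique _ hT hc (isCls_of_map hc' φ hφ)]
  exact hc'

/-- Composition with a global isomorphism. -/
def compMap (e : X ≃ₜ X₀) {a b c : POb P} (g : PArr b c ⊤) : parr e a b ⟶ parr e a c where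
  app U := TypeCat.ofHom fun f => PArr.comp f (g.rs le_top)

theorem PArr.diff_self {a b : POb P} {U : X₀.Opens} (f : PArr a b U) : PArr.diff f f = 0 := by
  have := PArr.diff_add f f f
  simpa using this

/-- The class only depends on the isomorphism class. -/
theorem PCls.of_arr {B : PBand P e G} {a b b' : POb P} (h : LocIso a b) (g : PArr b b' ⊤) {c : CohTop.H G 1}
    (hc : PCls B a b c) : PCls B a b' c := by
  have h' : LocIso a b' := h.trans fun x => ⟨⊤, trivial, ⟨g⟩⟩
  refine pcls_of_map B (parrD B a b) h.locNonempty h' hc (compMap e g) ?_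
  intro U r s
  refine congrArg (B.β U.unop).symm ?_
  refine (PArr.diff_comp r s (g.rs le_top) (g.rs le_top)).trans ?_
  rw [PArr.diff_self, add_zero]

/-- The object family of three objects. -/
def ob3 (a b c : POb P) : ULift.{u} (Fin 3) → POb P := fun i => ![a, b, c] i.down

theorem LocIso.ob3 {a b c : POb P} (hb : LocIso a b) (hc : LocIso a c) (i j : ULift.{u} (Fin 3)) :
    LocIso (ob3 a b c i) (ob3 a b c j) := by
  have h1 : ∀ i, LocIso a (K819.ob3 a b c i) := by
    rintro ⟨i⟩
    fin_cases i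
    · exact LocIso.refl a
    · exact hb
    · exact hc
  exact (h1 i).symm.trans (h1 j)

/-- Objects with the same class are isomorphic. -/
theorem exists_parr_of_pcls {B : PBand P e G} {a b b' : POb P} (h : LocIso a b) (h' : LocIso a b')
    {c : CohTop.H G 1} (hc : PCls B a b c) (hc' : PCls B a b' c) : Nonempty (PArr b b' ⊤) := by
  have h1 := GrbCls.exists_arr_of_cls (pgrb B (ob3 a b b') (fun i j => LocIso.ob3 h h' i j))
    (i := ⟨0⟩) (j := ⟨1⟩) (k := ⟨2⟩) le_top le_top le_top (c := c) hc hc'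
  obtain ⟨f⟩ := h1
  exact ⟨PArr.rs (a := b) (b := b') (U' := ⊤) (le_of_eq (map_top e.opensCongr).symm) f⟩

end K819
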