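import Groth.Agent.PtDefo.K819.RetBC

/-!
# Linearity of the class of a first-order deformation
-/

set_option autoImplicit false
universe u

open CategoryTheory CategoryTheory.Limits AlgebraicGeometry Opposite TopologicalSpace
open Groth.Agent.Sga67.Sec (Sec res resO res_res resO_resO res_self resO_self res_smul
  eq_of_locally eqO_of_locally)
open Groth.Agent.Fga.Torsor
open K696.Base K696.Thk K679
open ArtFun ArtFun.Art K681.AffDef

namespace K819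

variable {k : Type u} [Field k]

theorem eps_mul_alg (c : k) : (DualNumber.eps : DualNumber k) * algebraMap k (DualNumber k) c = TrivSqZeroExt.inr c := by
  ext
  · simp
  · simp [TrivSqZeroExt.algebraMap_eq_inl]

theorem tsze_aux {N : Type u} [AddCommGroup N] [Module k N] [Module kᵐᵒᵖ N] [IsCentralScalar k N]
    (f : N →ₗ[k] k) (m : TrivSqZeroExt k N) (hm : TrivSqZeroExt.fst m = 0) :
    (tszeMap f : TrivSqZeroExt k N →ₐ[k] TrivSqZeroExt k k) m = TrivSqZeroExt.inr (f m.snd) := by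
  ext
  · exact hm
  · rfl

theorem dual2_aux (m : TrivSqZeroExt k (k × k)) (hm : TrivSqZeroExt.fst m = 0) :
    ∃ c₁ c₂ : k, (pr₁ : (dual2 k k : Art k k) ⟶ dual k k) m = (eps : (dual k k : Art k k)) * inD c₁ ∧
      (pr₂ : (dual2 k k : Art k k) ⟶ dual k k) m = (eps : (dual k k : Art k k)) * inD c₂ ∧
      (plus : (dual2 k k : Art k k) ⟶ dual k k) m = (eps : (dual k k : Art k k)) * inD (c₁ + c₂) :=
  ⟨m.snd.1, m.snd.2, (tsze_aux (LinearMap.fst k k k) m hm).trans (eps_mul_alg _).symm,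
    (tsze_aux (LinearMap.snd k k k) m hm).trans (eps_mul_alg _).symm,
    (tsze_aux (LinearMap.fst k k k + LinearMap.snd k k k) m hm).trans (eps_mul_alg _).symm⟩

theorem scale_eps (c : k) : (scale c : (dual k k : Art k k) ⟶ dual k k) eps = (eps : (dual k k : Art k k)) * inD c := by
  refine (tsze_aux (c • LinearMap.id) (DualNumber.eps : DualNumber k) (TrivSqZeroExt.fst_inr k (1 : k))).trans ?_
  refine Eq.trans ?_ (eps_mul_alg c).symm
  congr 1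
  change c * (1 : k) = c
  rw [mul_one]

variable {X : Scheme.{u}} {x : X ⟶ specPt k} {ι : Type u} {p : ι → (specPt k ⟶ X)}

theorem kap_injective (ξ : ArtFun.DefSch (Λ := k) X x (dual k k)) {V : X.Opens} (hV : IsAffineOpen V) :
    Function.Injective (kap ξ hV) := by
  rw [injective_iff_map_eq_zero]
  intro m hm
  obtain ⟨s, hs⟩ := exists_lift_π ξ hV m
  rw [← hs, kap_π] at hm
  rw [← hs, π_eq_zero_of ξ hV s hm]

theorem stA_eps_mul (ξ : ArtFun.DefSch (Λ := k) X x (dual k k)) {V : X.Opens} (hV : IsAffineOpen V) (c : k)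
    (t : Γ((thT ξ).X, (thT ξ).im V)) :
    stA (thf ξ) _ ((eps : (dual k k : Art k k)) * inD c) * t = kap ξ hV (stA x V c * (thT ξ).π (le_top : V ≤ ⊤) t) := by
  have h1 : (thT ξ).π (le_top : V ≤ ⊤) (stA (thf ξ) _ (inD c : (dual k k : Art k k)) * t) =
      stA x V c * (thT ξ).π (le_top : V ≤ ⊤) t := by
    rw [map_mul, π_stA, res_inD]
  rw [← h1, kap_π, map_mul, epsS]
  ring

theorem π_mul_kap (ξ : ArtFun.DefSch (Λ := k) X x (dual k k)) {V : X.Opens} (hV : IsAffineOpen V)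
    (m : Γ(X, V)) (t : Γ((thT ξ).X, (thT ξ).im V)) :
    t * kap ξ hV m = kap ξ hV ((thT ξ).π (le_top : V ≤ ⊤) t * m) := by
  obtain ⟨s, hs⟩ := exists_lift_π ξ hV m
  rw [← hs, kap_π, ← map_mul, kap_π]
  ring

/-- The key identity for sums. -/
theorem exists_add {η : PtDefo.DefSch (Λ := k) X x p (dual2 k k)} {ξ₁ ξ₂ ξ₃ : PtDefo.DefSch (Λ := k) X x p (dual k k)}
    (b₁ : PBC η pr₁ ξ₁) (b₂ : PBC η pr₂ ξ₂) (b₃ : PBC η plus ξ₃) {V : X.Opens} (hV : IsAffineOpen V)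
    (δ : Γ((thT η.toDefSch).X, (thT η.toDefSch).im V)) (hδ : (thT η.toDefSch).π (le_top : V ≤ ⊤) δ = 0) :
    ∃ m₁ m₂ : Γ(X, V), b₁.tm V δ = kap ξ₁.toDefSch hV m₁ ∧ b₂.tm V δ = kap ξ₂.toDefSch hV m₂ ∧
      b₃.tm V δ = kap ξ₃.toDefSch hV (m₁ + m₂) := by
  have h1 : δ ∈ (IsLocalRing.maximalIdeal (dual2 k k : Art k k)).map (stA (thf η.toDefSch) ((thT η.toDefSch).im V)) := by
    rw [← ker_π η.toDefSch hV]; exact hδ
  rw [Ideal.map] at h1
  refine Submodule.span_induction (p := fun δ _ => ∃ m₁ m₂ : Γ(X, V), b₁.tm V δ = kap ξ₁.toDefSch hV m₁ ∧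
    b₂.tm V δ = kap ξ₂.toDefSch hV m₂ ∧ b₃.tm V δ = kap ξ₃.toDefSch hV (m₁ + m₂)) ?_ ?_ ?_ ?_ h1
  · rintro _ ⟨m, hm, rfl⟩
    obtain ⟨c₁, c₂, e1, e2, e3⟩ := dual2_aux (k := k) m ((mem_maximalIdeal_iff (dual2 k k : Art k k) m).1 hm)
    refine ⟨stA x V c₁, stA x V c₂, ?_, ?_, ?_⟩
    · rw [b₁.tm_stA, e1]
      have h2 := stA_eps_mul ξ₁.toDefSch hV c₁ 1
      rwa [mul_one, map_one, mul_one] at h2
    · rw [b₂.tm_stA, e2]
      have h2 := stA_eps_mul ξ₂.toDefSch hV c₂ 1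
      rwa [mul_one, map_one, mul_one] at h2
    · rw [b₃.tm_stA, e3]
      have h2 := stA_eps_mul ξ₃.toDefSch hV (c₁ + c₂) 1
      rwa [mul_one, map_one, mul_one, map_add (stA x V)] at h2
  · refine ⟨0, 0, ?_, ?_, ?_⟩
    · rw [map_zero, map_zero]
    · rw [map_zero, map_zero]
    · rw [map_zero, add_zero, map_zero]
  · rintro s t _ _ ⟨m₁, m₂, e1, e2, e3⟩ ⟨n₁, n₂, f1, f2, f3⟩
    refine ⟨m₁ + n₁, m₂ + n₂, ?_, ?_, ?_⟩
    · rw [map_add, e1, f1, map_add]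
    · rw [map_add, e2, f2, map_add]
    · rw [map_add, e3, f3, ← map_add]
      congr 1
      ring
  · rintro r s _ ⟨m₁, m₂, e1, e2, e3⟩
    refine ⟨(thT η.toDefSch).π (le_top : V ≤ ⊤) r * m₁, (thT η.toDefSch).π (le_top : V ≤ ⊤) r * m₂, ?_, ?_, ?_⟩
    · rw [smul_eq_mul, map_mul, e1, π_mul_kap, b₁.π_tm]
    · rw [smul_eq_mul, map_mul, e2, π_mul_kap, b₂.π_tm]
    · rw [smul_eq_mul, map_mul, e3, π_mul_kap, b₃.π_tm, mul_add]

/-- The key identity for scalars. -/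
theorem exists_scale {η ξ : PtDefo.DefSch (Λ := k) X x p (dual k k)} {c : k}
    (b : PBC η (scale c) ξ) {V : X.Opens} (hV : IsAffineOpen V)
    (δ : Γ((thT η.toDefSch).X, (thT η.toDefSch).im V)) (hδ : (thT η.toDefSch).π (le_top : V ≤ ⊤) δ = 0) :
    ∃ m : Γ(X, V), δ = kap η.toDefSch hV m ∧ b.tm V δ = kap ξ.toDefSch hV (stA x V c * m) := by
  obtain ⟨t, rfl⟩ := exists_eq_epsS_mul η.toDefSch hV δ hδ
  refine ⟨(thT η.toDefSch).π (le_top : V ≤ ⊤) t, (kap_π _ _ _).symm, ?_⟩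
  rw [map_mul, epsS, b.tm_stA, scale_eps, stA_eps_mul ξ.toDefSch hV, b.π_tm]

section cls

variable (hx : Flat x) (hp : ∀ j, p j ≫ x = 𝟙 (specPt k)) {Y : TopCat.{u}} {e : Y ≃ₜ X} {G : CohTop.Ab Y}
  (B : PBand (ptDat x p) e G)

/-- Additivity of the differences. -/
theorem diff_add3 {η : PtDefo.DefSch (Λ := k) X x p (dual2 k k)} {ξ₁ ξ₂ ξ₃ : PtDefo.DefSch (Λ := k) X x p (dual k k)}
    (b₁ : PBC η pr₁ ξ₁) (b₂ : PBC η pr₂ ξ₂) (b₃ : PBC η plus ξ₃) {U : X.Opens} (r s : Ret η U) :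
    PArr.diff ((b₃.ret r).arr hx hp) ((b₃.ret s).arr hx hp) =
      PArr.diff ((b₁.ret r).arr hx hp) ((b₁.ret s).arr hx hp) +
        PArr.diff ((b₂.ret r).arr hx hp) ((b₂.ret s).arr hx hp) := by
  refine Subtype.ext (SDer.ext' fun V hV hVU a => ?_)
  apply toO_injective V
  have hδ : (thT η.toDefSch).π (le_top : V ≤ ⊤) (s.fn hVU a - r.fn hVU a) = 0 := by
    rw [map_sub, Ret.π_fn, Ret.π_fn, sub_self]
  obtain ⟨m₁, m₂, e1, e2, e3⟩ := exists_add b₁ b₂ b₃ hV.1 _ hδ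
  have k1 := Ret.diff_arr hx hp (b₁.ret r) (b₁.ret s) hV hVU a
  have k2 := Ret.diff_arr hx hp (b₂.ret r) (b₂.ret s) hV hVU a
  have k3 := Ret.diff_arr hx hp (b₃.ret r) (b₃.ret s) hV hVU a
  rw [PBC.ret_fn, PBC.ret_fn, ← map_sub, e1] at k1
  rw [PBC.ret_fn, PBC.ret_fn, ← map_sub, e2] at k2
  rw [PBC.ret_fn, PBC.ret_fn, ← map_sub, e3] at k3
  have k1' := kap_injective _ hV.1 k1
  have k2' := kap_injective _ hV.1 k2
  have k3' := kap_injective _ hV.1 k3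
  refine k3'.trans ?_
  refine Eq.trans ?_ (map_add (toO V) _ _).symm
  rw [k1', k2']

/-- The differences and scalars. -/
theorem diff_scale {η ξ : PtDefo.DefSch (Λ := k) X x p (dual k k)} {c : k} (b : PBC η (scale c) ξ) {U : X.Opens}
    (r s : Ret η U) {V : X.Opens} (hV : Sm (xD x) V) (hVU : V ≤ U) (a : Γ(X, V)) :
    toO V ((PArr.diff ((b.ret r).arr hx hp) ((b.ret s).arr hx hp)).1.app hV hVU a) =
      stA x V c * toO V ((PArr.diff (r.arr hx hp) (s.arr hx hp)).1.app hV hVU a) := by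
  have hδ : (thT η.toDefSch).π (le_top : V ≤ ⊤) (s.fn hVU a - r.fn hVU a) = 0 := by
    rw [map_sub, Ret.π_fn, Ret.π_fn, sub_self]
  obtain ⟨m, e1, e2⟩ := exists_scale b hV.1 _ hδ
  have k1 := Ret.diff_arr hx hp r s hV hVU a
  have k2 := Ret.diff_arr hx hp (b.ret r) (b.ret s) hV hVU a
  rw [e1] at k1
  rw [PBC.ret_fn, PBC.ret_fn, ← map_sub, e2] at k2
  rw [kap_injective _ hV.1 k1, kap_injective _ hV.1 k2]

/-- Additivity of the class. -/
theorem pcls_add {η : PtDefo.DefSch (Λ := k) X x p (dual2 k k)} {ξ₁ ξ₂ ξ₃ : PtDefo.DefSch (Λ := k) X x p (dual k k)}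
    (hη : LocRet η) (b₁ : PBC η pr₁ ξ₁) (b₂ : PBC η pr₂ ξ₂) (b₃ : PBC η plus ξ₃) {c₁ c₂ : CohTop.H G 1}
    (h₁ : PCls B (pOb (tau hx hp (dual k k))) (pOb ξ₁) c₁) (h₂ : PCls B (pOb (tau hx hp (dual k k))) (pOb ξ₂) c₂) :
    PCls B (pOb (tau hx hp (dual k k))) (pOb ξ₃) (c₁ + c₂) := by
  have k1 := h₁.pull _ (b₁.retMap e ≫ arrMap hx hp ξ₁ e)
  have k2 := h₂.pull _ (b₂.retMap e ≫ arrMap hx hp ξ₂ e)
  have k3 := k1.add _ k2
  refine pcls_of_map B _ (hη.locNonempty e) ((hη.bc b₃).locIso hx hp) k3 (b₃.retMap e ≫ arrMap hx hp ξ₃ e) ?_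
  intro U r s
  refine Eq.trans ?_ (map_add (B.β U.unop).symm _ _)
  exact congrArg (B.β U.unop).symm (diff_add3 hx hp b₁ b₂ b₃ (U := e.opensCongr U.unop) r s)

/-- `σ` acts as the scalar `c`. -/
def IsScal (c : k) (σ : G ⟶ G) : Prop :=
  ∀ (U : Opens Y) (s : G.obj.obj (op U)) {V : X.Opens} (hV : Sm (xD x) V) (hVU : V ≤ e.opensCongr U) (a : Γ(X, V)),
    toO V ((B.β U (σ.hom.app (op U) s)).1.app hV hVU a) = stA x V c * toO V ((B.β U s).1.app hV hVU a)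

/-- Compatibility of the class with scalars. -/
theorem pcls_scale {η ξ : PtDefo.DefSch (Λ := k) X x p (dual k k)} {c : k} (hη : LocRet η)
    (b : PBC η (scale c) ξ) {σ : G ⟶ G} (hσ : IsScal B c σ) {c₁ : CohTop.H G 1}
    (h₁ : PCls B (pOb (tau hx hp (dual k k))) (pOb η) c₁) :
    PCls B (pOb (tau hx hp (dual k k))) (pOb ξ) (Sheaf.H.map σ 1 c₁) := by
  have k1 := h₁.pull _ (arrMap hx hp η e)
  have k2 := k1.push _ σ
  refine pcls_of_map B _ (hη.locNonempty e) ((hη.bc b).locIso hx hp) k2 (b.retMap e ≫ arrMap hx hp ξ e) ?_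
  intro U r s
  change (B.β U.unop).symm (PArr.diff ((b.ret (U := e.opensCongr U.unop) r).arr hx hp)
    ((b.ret (U := e.opensCongr U.unop) s).arr hx hp)) =
      σ.hom.app (op U.unop) ((B.β U.unop).symm (PArr.diff (Ret.arr (U := e.opensCongr U.unop) hx hp r)
        (Ret.arr (U := e.opensCongr U.unop) hx hp s)))
  rw [AddEquiv.symm_apply_eq]
  refine Subtype.ext (SDer.ext' fun V hV hVU a => ?_)
  apply toO_injective V
  rw [hσ U.unop _ hV hVU a, AddEquiv.apply_symm_apply]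
  exact diff_scale hx hp b (U := e.opensCongr U.unop) r s hV hVU a

end cls

end K819
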