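import Groth.Agent.PtDefo.K819.IdBand
import Groth.Agent.PtDefo.K819.Lin
import Groth.Agent.Nrm16.K137.Ideal
import Groth.Prelude.Def_TanTw

/-!
# The band of derivations vanishing at the marked points
-/

set_option autoImplicit false
universe u

open CategoryTheory CategoryTheory.Limits AlgebraicGeometry Opposite TopologicalSpace
open Groth.Agent.Sga67.Sec
open K696.Base K696.Thk K679 OmegaSh
open ArtFun ArtFun.Art

namespace K819

section sub

variable {X₀ S : Scheme.{u}} {p₀ : X₀ ⟶ S} {N M : X₀.Modules} (κ : N ⟶ M) [Mono κ] (P : PtDat p₀ M)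
  (hκ : ∀ {V : X₀.Opens} (hV : Sm p₀ V) (m : Sec M V),
    (∃ n, appS κ V n = m) ↔ ∀ (j : P.J) (hj : P.x j ∈ V), P.ev j hV hj m = 0)

include hκ in
theorem exists_pre {U : X₀.Opens} (D : PDer P U) {V : X₀.Opens} (hV : Sm p₀ V) (hU : V ≤ U) (a : Γ(X₀, V)) :
    ∃ n, appS κ V n = D.1.app hV hU a := (hκ hV _).2 fun j hj => D.2 j hV hU hj a

/-- The derivations with values in a submodule. -/
noncomputable def subEquiv (U : X₀.Opens) : SDer p₀ N U ≃+ PDer P U where
  toFun D := ⟨{ app := fun {V} hV hU => (appS κ V).toAddMonoidHom.comp (D.app hV hU)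
                res_app := fun {V V'} hV hV' h h' a => by
                  change appS κ V' (D.app hV' _ (resO X₀ h' a)) = res M h' (appS κ V (D.app hV h a))
                  rw [D.res_app hV hV' h h', appS_res]
                leib := fun {V} hV h a b => by
                  change appS κ V (D.app hV h (a * b)) = a • appS κ V (D.app hV h b) + b • appS κ V (D.app hV h a)
                  rw [D.leib, map_add, map_smul, map_smul]
                kill := fun {V} hV h Z hZ c => by
                  change appS κ V (D.app hV h _) = 0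
                  rw [D.kill, map_zero] },
    fun j {V} hV hU hj a => (hκ hV _).1 ⟨_, rfl⟩ j hj⟩
  invFun D :=
    { app := fun {V} hV hU => AddMonoidHom.mk' (fun a => (exists_pre κ P hκ D hV hU a).choose) fun a b => by
        apply injective_of_mono κ V
        rw [map_add (appS κ V)]
        refine (exists_pre κ P hκ D hV hU (a + b)).choose_spec.trans ?_
        refine (map_add (D.1.app hV hU) a b).trans ?_
        exact congrArg₂ (fun u v => u + v) (exists_pre κ P hκ D hV hU a).choose_spec.symm
          (exists_pre κ P hκ D hV hU b).choose_spec.symm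
      res_app := fun {V V'} hV hV' h h' a => by
        apply injective_of_mono κ V'
        rw [appS_res]
        refine (exists_pre κ P hκ D hV' (h'.trans h) (resO X₀ h' a)).choose_spec.trans ?_
        refine Eq.trans ?_ (congrArg (res M h') (exists_pre κ P hκ D hV h a).choose_spec.symm)
        exact D.1.res_app hV hV' h h' a
      leib := fun {V} hV h a b => by
        apply injective_of_mono κ V
        rw [map_add, map_smul, map_smul]
        refine (exists_pre κ P hκ D hV h (a * b)).choose_spec.trans ?_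
        refine (D.1.leib hV h a b).trans ?_
        have e1 := (exists_pre κ P hκ D hV h a).choose_spec
        have e2 := (exists_pre κ P hκ D hV h b).choose_spec
        exact congrArg₂ (fun u v : Sec M V => a • u + b • v) e2.symm e1.symm
      kill := fun {V} hV h Z hZ c => by
        apply injective_of_mono κ V
        rw [map_zero]
        exact (exists_pre κ P hκ D hV h _).choose_spec.trans (D.1.kill hV h hZ c) }
  left_inv D := SDer.ext' fun V hV hU a => by
    apply injective_of_mono κ V
    exact (exists_pre κ P hκ _ hV hU a).choose_spec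
  right_inv D := Subtype.ext (SDer.ext' fun V hV hU a => (exists_pre κ P hκ D hV hU a).choose_spec)
  map_add' D D' := Subtype.ext (SDer.ext' fun V hV hU a => map_add (appS κ V) _ _)

theorem subEquiv_app {U : X₀.Opens} (D : SDer p₀ N U) {V : X₀.Opens} (hV : Sm p₀ V) (hU : V ≤ U) (a : Γ(X₀, V)) :
    (subEquiv κ P hκ U D).1.app hV hU a = appS κ V (D.app hV hU a) := rfl

/-- The band of derivations with values in a submodule. -/
noncomputable def subBand {X : TopCat.{u}} {e : X ≃ₜ X₀} {G : CohTop.Ab X} (B : Band p₀ N e G) : PBand P e G where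
  β U := (B.β U).trans (subEquiv κ P hκ _)
  nat {U V} h t := by
    refine Subtype.ext (SDer.ext' fun W hW hWU a => ?_)
    have h1 := B.nat h t
    change appS κ W ((B.β V (K288.Sec.rs G h t)).app hW hWU a) = _
    rw [h1]
    rfl

end sub

variable {k : Type u} [Field k] {X : Scheme.{u}} {x : X ⟶ specPt k} {ι : Type u} {p : ι → (specPt k ⟶ X)}

section scal

variable {Ω : X.Modules} {d : Der x Ω} (hd : IsUniversal d) {N : X.Modules} (κ : N ⟶ Coh.structureModule X) [Mono κ]
  (hκ : ∀ {V : X.Opens} (hV : Sm (xD x) V) (m : Sec (Coh.structureModule X) V),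
    (∃ n, appS κ V n = m) ↔ ∀ (j : ι) (hj : p j z0 ∈ V), (ptDat x p).ev j hV hj m = (0 : (dual k k : Art k k)))
  [DCoh.HasSheafHom Ω]

/-- The band of derivations vanishing at the marked points. -/
noncomputable def ptBand : PBand (ptDat x p) (IdBand.eId X) (Coh.toAb ((DCoh.sheafHom Ω).obj N)) :=
  subBand κ (ptDat x p) hκ (IdBand.band (s := specRes (dual k k)) hd N)

theorem toGlobal_res (c : k) (V : X.Opens) :
    resO X (le_top : V ≤ ⊤) (Coh.toGlobal x c) = stA x V c := by
  rw [stA_apply, ev_eq]
  rfl

theorem isScal_smulAb (c : k) :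
    IsScal (ptBand (p := p) hd κ hκ) c (Coh.smulAb ((DCoh.sheafHom Ω).obj N) (Coh.toGlobal x c)) := by
  intro U t V hV hVU a
  have hVU' : V ≤ U := hVU
  have h1 : ∀ t : (Coh.toAb ((DCoh.sheafHom Ω).obj N)).obj.obj (op U),
      ((ptBand (p := p) hd κ hκ).β U t).1.app hV hVU a =
        appS κ V ((IdBand.homSec Ω N U t).app hVU' (K696.DerLoc.dsec d V a)) := fun t =>
    congrArg (appS κ V) (IdBand.band_app hd N U t hV hVU hVU' a)
  rw [h1, h1]
  have h2 := IdBand.homSec_smul Ω N (Coh.toGlobal x c) U t hVU' (K696.DerLoc.dsec d V a)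
  refine (congrArg (fun z => toO V (appS κ V z)) h2).trans ?_
  rw [map_smul, toO_smul, toGlobal_res]

end scal

section ideal

theorem app_eq_zero_iff_sp (q : specPt k ⟶ X) {V : X.Opens} (h : q z0 ∈ V) (a : Γ(X, V)) :
    q.app V a = 0 ↔ sp q (le_pt q h) a = 0 := by
  rw [sp_apply, ev_eq]
  have h1 : q ⁻¹ᵁ V ≤ ⊤ := le_top
  constructor
  · intro h0
    rw [h0, map_zero]
    exact map_zero _
  · intro h0
    have h2 : resO (specPt k) (le_pt q h) (q.app V a) = 0 := by
      apply (ConcreteCategory.bijective_of_isIso (Scheme.ΓSpecIso (CommRingCat.of k)).hom).1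
      exact h0.trans (map_zero _).symm
    have h3 := resO_resO (X := specPt k) (le_pt q h) h1 (q.app V a)
    rw [h2, map_zero] at h3
    exact (resO_self (X := specPt k) (h1.trans (le_pt q h)) (q.app V a)).symm.trans h3.symm

theorem app_eq_zero_of_notMem (q : specPt k ⟶ X) {V : X.Opens} (h : q z0 ∉ V) (a : Γ(X, V)) : q.app V a = 0 := by
  have h1 : q ⁻¹ᵁ V = ⊥ := by
    ext y
    constructor
    · intro hy
      rw [Subsingleton.elim y z0] at hy
      exact (h hy).elim
    · intro hy
      exact hy.elim
  have h2 : Subsingleton Γ(specPt k, q ⁻¹ᵁ V) := by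
    rw [h1]; infer_instance
  exact Subsingleton.elim _ _

theorem exists_ideal_iff [Finite ι] (hqc : ∀ j, QuasiCompact (p j)) {V : X.Opens} (hV : Sm (xD x) V)
    (m : Sec (Coh.structureModule X) V) :
    (∃ n, appS (ClSub.idealModι (PtDefo.ptIdeal p)) V n = m) ↔
      ∀ (j : ι) (hj : p j z0 ∈ V), (ptDat x p).ev j hV hj m = (0 : (dual k k : Art k k)) := by
  let A : X.affineOpens := ⟨V, hV.1⟩
  have h0 : (∃ n, appS (ClSub.idealModι (PtDefo.ptIdeal p)) V n = m) ↔ toO V m ∈ (PtDefo.ptIdeal p).ideal A := by
    constructor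
    · rintro ⟨n, rfl⟩
      exact K137.Ideal.idealSect_mem (PtDefo.ptIdeal p) A n
    · intro h
      obtain ⟨c, hc⟩ := K137.Ideal.exists_idealSect_eq (PtDefo.ptIdeal p) A h
      exact ⟨c, hc⟩
  rw [h0]
  have h1 : (PtDefo.ptIdeal p).ideal A = ⨅ j, ((p j).ker).ideal A := by
    unfold PtDefo.ptIdeal
    rw [Scheme.IdealSheafData.ideal_iInf, iInf_apply]
  rw [h1, Ideal.mem_iInf]
  constructor
  · intro h j hj
    have h2 := h j
    rw [Scheme.Hom.ker_apply] at h2
    rw [ptDat_ev_eq_zero_iff, ← app_eq_zero_iff_sp (p j) hj]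
    exact h2
  · intro h j
    rw [Scheme.Hom.ker_apply]
    by_cases hj : p j z0 ∈ V
    · have h2 := h j hj
      rw [ptDat_ev_eq_zero_iff, ← app_eq_zero_iff_sp (p j) hj] at h2
      exact h2
    · exact app_eq_zero_of_notMem (p j) hj _

end ideal

end K819
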