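import Groth.Agent.PtDefo.K819.RetBC

/-!
# The twist of a pointed deformation by a torsor
-/

set_option autoImplicit false
universe u

open CategoryTheory CategoryTheory.Limits AlgebraicGeometry Opposite TopologicalSpace
open Groth.Agent.Sga67.Sec (Sec res resO res_res resO_resO res_self resO_self res_smul
  eq_of_locally eqO_of_locally)
open Groth.Agent.Fga.Torsor
open K696.Base K696.Thk K679
open ArtFun ArtFun.Art K681.AffDef

namespace K819

section pcls

variable {X₀ S : Scheme.{u}} {p₀ : X₀ ⟶ S} {M : X₀.Modules}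
  {X : TopCat.{u}} {e : X ≃ₜ X₀} {G₀ G : CohTop.Ab X} {B₀ : Band p₀ M e G₀} {P : PtDat p₀ M}
  {B : PBand P e G} {a : POb P} {T : (Opens X)ᵒᵖ ⥤ Type u} {D : Diff T G.obj}
  {hT : LocNonempty (Opens.grothendieckTopology X) T (⊤ : Opens X)} {b : POb P}

/-- The class of a twisted thickening is the class of the torsor. -/
theorem pcls_twist (R : (grb B₀ (fun _ : PUnit.{u + 1} => (⊤ : X₀.Opens)) (fun _ => a.toThOb)
      (fun _ _ _ _ _ => ⟨⊤, trivial, ⟨TArr.one a.toThOb le_rfl⟩⟩)).Rig)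
    (hR : R = torRig B₀ B a D hT)
    (ψ : glS R ⟶ b.T.X) (hψj : (⊤ : X₀.Opens).ι ≫ iS R ≫ ψ = b.T.j) (hψs : ψ ≫ b.st = strS R)
    (hκ : ∀ (V : JS R) (m : Sec M V.1), muV R ψ hψj V (b.κ V.2.1 le_top m) = a.κ V.2.1 le_top m)
    (hpt : ∀ (V : JS R) (l : P.J) (hl : P.x l ∈ V.1) (s : Γ(b.T.X, b.T.im V.1)),
      a.pt l V.2.1 hl (muV R ψ hψj V s) = b.pt l V.2.1 hl s)
    {c : CohTop.H G 1} (hc : IsCls (X := (⊤ : Opens X)) isTerminalTop D c) :
    LocIso a b ∧ PCls B a b c := by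
  subst hR
  let φ : T ⟶ parr e a b :=
    { app := fun U => TypeCat.ofHom fun r =>
        (⟨twArr (torRig B₀ B a D hT) ψ hψj hψs hκ (i := PUnit.unit) (U := U.unop) r,
          resp_twArr _ rfl ψ hψj hψs hκ hpt r⟩ : PArr a b (e.opensCongr U.unop))
      naturality := fun U V f => by
        refine ConcreteCategory.hom_ext _ _ fun r => ?_
        refine PArr.ext (TArr.ext' fun W hW hU s => ?_)
        have h1 : rsS (torRig B₀ B a D hT) (i := PUnit.unit) (U := V.unop) (T.map f r) hU =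
            rsS (torRig B₀ B a D hT) (i := PUnit.unit) (U := U.unop) r
              (hU.trans (e.opensCongr.monotone f.unop.le)) :=
          (torRig B₀ B a D hT).res_res _ _ _
        have h2 : ∀ (r' : RgS (torRig B₀ B a D hT) PUnit.unit W),
            rsS (torRig B₀ B a D hT) (i := PUnit.unit) (U := V.unop) (T.map f r) hU = r' →
            (twArr (torRig B₀ B a D hT) ψ hψj hψs hκ (i := PUnit.unit) (U := V.unop) (T.map f r)).app hW hU s =
              (eS (torRig B₀ B a D hT) r' (rg (torRig B₀ B a D hT) ⟨W, hW, PUnit.unit, ⟨r'⟩⟩)).app hW le_rfl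
                (muV (torRig B₀ B a D hT) ψ hψj ⟨W, hW, PUnit.unit, ⟨r'⟩⟩ s) := by
          intro r' hr'
          subst hr'
          rfl
        exact h2 _ h1 }
  have hloc : LocIso a b := by
    intro y
    obtain ⟨R', hR', hne⟩ := hT
    obtain ⟨U, f, hf, hx⟩ := hR' (e.symm y) trivial
    obtain ⟨r⟩ := hne U f hf
    refine ⟨e.opensCongr U, hx, ⟨φ.app (op U) r⟩⟩
  refine ⟨hloc, pcls_of_map B D hT hloc hc φ ?_⟩
  intro U r r'
  change (B.β U.unop).symm (PArr.diff _ _) = D.d r r'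
  rw [AddEquiv.symm_apply_eq]
  apply Subtype.ext
  change TArr.diff (twArr (torRig B₀ B a D hT) ψ hψj hψs hκ (i := PUnit.unit) (U := U.unop) r)
    (twArr (torRig B₀ B a D hT) ψ hψj hψs hκ (i := PUnit.unit) (U := U.unop) r') = _
  refine (diff_twArr (torRig B₀ B a D hT) ψ hψj hψs hκ (i := PUnit.unit) (U := U.unop) r r').trans ?_
  exact TArr.diff_add' _ _

end pcls

variable {k : Type u} [Field k] {X : Scheme.{u}} {x : X ⟶ specPt k} {ι : Type u} {p : ι → (specPt k ⟶ X)}

variable {Y : TopCat.{u}} {e : Y ≃ₜ X} {G₀ G : CohTop.Ab Y} {B₀ : Band (xD x) (Coh.structureModule X) e G₀}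
  {η : PtDefo.DefSch (Λ := k) X x p (dual k k)}
  (R : (grb B₀ (fun _ : PUnit.{u + 1} => (⊤ : X.Opens)) (fun _ => (pOb η).toThOb)
    (fun _ _ _ _ _ => ⟨⊤, trivial, ⟨TArr.one (pOb η).toThOb le_rfl⟩⟩)).Rig)

theorem flat_strS : Flat (strS R) := by
  have hZ : IsZariskiLocalAtSource @Flat := HasRingHomProperty.instIsZariskiLocalAtSource
  unfold strS glS
  rw [hZ.iff_of_openCover (thSys R).cov]
  intro V
  have h1 : (thSys R).ι V ≫ str R = stS R V := ι_str R V
  change Flat ((thSys R).ι V ≫ str R)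
  rw [h1]
  have hfl : Flat (thf η.toDefSch) := inferInstance
  have ho' : Flat (isAffineOpen_im (thT η.toDefSch) (smS R V).1 (le_of_RgS R (rg R V))).fromSpec :=
    HasRingHomProperty.of_isOpenImmersion (P := @Flat) RingHom.Flat.containsIdentities
  exact @Flat.comp _ _ _ _ _ ho' hfl

theorem isPullback_iS : IsPullback (iS R) x (strS R) (specRes (dual k k)) := by
  refine Groth.Agent.CalgA.TwoGlue.isPullback_of_cover (by exact i_str R) (thSys R).cov
    (fun V : JS R => V.1.toScheme) (fun V : JS R => V.1.ι) (fun V : JS R => (thSys R).inc V)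
    (fun V => ((thSys R).isPullback_i V).flip) ?_
  intro V
  have h1 : (thSys R).ι V ≫ str R = stS R V := ι_str R V
  change IsPullback ((thSys R).inc V) (V.1.ι ≫ x) ((thSys R).ι V ≫ str R) (specRes (dual k k))
  rw [h1]
  have h2 := (isPullback_incS (thT η.toDefSch) (smS R V).1 (le_of_RgS R (rg R V))).paste_vert
    (isPullback_thT η.toDefSch)
  rw [← Category.assoc, Scheme.homOfLE_ι] at h2
  exact h2

theorem exists_JS (y : X) (W : X.Opens) (hy : y ∈ W) : ∃ V : JS R, y ∈ V.1 ∧ V.1 ≤ W := by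
  obtain ⟨i, U, hyU, ⟨r⟩⟩ := R.cov (e.symm y)
  have hx : y ∈ e.opensCongr U := hyU
  obtain ⟨V, hV, hyV, hVU⟩ := exists_sm (xD x) y (e.opensCongr U ⊓ W) ⟨hx, hy⟩
  exact ⟨⟨V, hV, i, ⟨R.res ((e.opensCongr.symm_apply_le).2 (hVU.trans inf_le_left)) r⟩⟩, hyV,
    hVU.trans inf_le_right⟩

/-- The deformation glued from a rigidification. -/
noncomputable def twDef : ArtFun.DefSch (Λ := k) X x (dual k k) where
  total := glS R
  f := strS R
  flat := flat_strS R
  i := iS R
  isPullback := isPullback_iS R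

/-- The marked section, on a piece. -/
noncomputable def secV (j : ι) (V : JS R) (hj : p j z0 ∈ V.1) : spec (dual k k : Art k k) ⟶ (thT (twDef R)).X :=
  Spec.map (CommRingCat.ofHom (ptO η j hj)) ≫ ιS R V

variable {R}

/-- The transition maps respect the marked points. -/
def RespR (R : (grb B₀ (fun _ : PUnit.{u + 1} => (⊤ : X.Opens)) (fun _ => (pOb η).toThOb)
    (fun _ _ _ _ _ => ⟨⊤, trivial, ⟨TArr.one (pOb η).toThOb le_rfl⟩⟩)).Rig) : Prop :=
  ∀ {i j : PUnit.{u + 1}} {V : X.Opens} (r : RgS R i V) (s : RgS R j V), Resp (pOb η) (pOb η) (eS R r s)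

theorem ptO_rhoS (hR : RespR R) (j : ι) {V V' : JS R} (h : V'.1 ≤ V.1) (hj : p j z0 ∈ V'.1)
    (s : Γ((thT η.toDefSch).X, (thT η.toDefSch).im V.1)) :
    ptO η j hj (rhoS R h s) = ptO η j (h hj) s := by
  have h1 := hR (rg R V') (resS R h (rg R V)) j V'.2.1 le_rfl hj
    (resO (thT η.toDefSch).X ((thT η.toDefSch).im_mono h) s)
  refine h1.trans ?_
  exact (pOb η).res_pt j V.2.1 V'.2.1 h hj s

theorem secV_eq_of_le (hR : RespR R) (j : ι) {V V' : JS R} (h : V'.1 ≤ V.1) (hj : p j z0 ∈ V'.1) :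
    secV R j V' hj = secV R j V (h hj) := by
  unfold secV
  have h1 := tr_ιS R h
  have h2 : CommRingCat.ofHom (rhoS R h) ≫ CommRingCat.ofHom (ptO η j hj) = CommRingCat.ofHom (ptO η j (h hj)) := by
    ext s
    exact ptO_rhoS hR j h hj s
  have h3 : Spec.map (CommRingCat.ofHom (ptO η j (h hj))) =
      Spec.map (CommRingCat.ofHom (ptO η j hj)) ≫ Spec.map (CommRingCat.ofHom (rhoS R h)) := by
    rw [← Spec.map_comp]
    exact congrArg Spec.map h2.symm
  rw [h3]
  refine Eq.trans ?_ (Category.assoc _ _ _).symm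
  exact congrArg (fun t => Spec.map (CommRingCat.ofHom (ptO η j hj)) ≫ t) h1.symm

theorem secV_eq (hR : RespR R) (j : ι) (V V' : JS R) (hj : p j z0 ∈ V.1) (hj' : p j z0 ∈ V'.1) :
    secV R j V hj = secV R j V' hj' := by
  obtain ⟨U, hU, hle⟩ := exists_JS R (p j z0) (V.1 ⊓ V'.1) ⟨hj, hj'⟩
  rw [← secV_eq_of_le hR j (hle.trans inf_le_left) hU, ← secV_eq_of_le hR j (hle.trans inf_le_right) hU]

theorem secV_f (j : ι) (V : JS R) (hj : p j z0 ∈ V.1) : secV R j V hj ≫ thf (twDef R) = 𝟙 _ := by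
  have h1 := ιS_strS R V
  have h2 := map_sp_fromSpec (η.sect j : _ ⟶ (thT η.toDefSch).X) (isAffineOpen_im (thT η.toDefSch) V.2.1.1 le_top)
    (le_sec η.toDefSch (p j) _ (pt_thi η j) hj)
  refine (Category.assoc _ _ _).trans ?_
  refine (congrArg (fun t => Spec.map (CommRingCat.ofHom (ptO η j hj)) ≫ t) h1).trans ?_
  refine (Category.assoc _ _ _).symm.trans ?_
  refine (congrArg (fun t => t ≫ thf η.toDefSch) h2).trans ?_
  exact sect_thf η j

theorem pt_secV (j : ι) (V : JS R) (hj : p j z0 ∈ V.1) :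
    p j ≫ thi (twDef R) = specRes (dual k k) ≫ secV R j V hj := by
  -- the marked point in `V`
  let t : specPt k ⟶ V.1.toScheme := IsOpenImmersion.lift V.1.ι (p j) (by
    rw [Scheme.Opens.range_ι]
    rintro _ ⟨y, rfl⟩
    rw [Subsingleton.elim y z0]
    exact hj)
  have ht : t ≫ V.1.ι = p j := IsOpenImmersion.lift_fac _ _ _
  have h1 : t ≫ V.1.toSpecΓ = Spec.map (CommRingCat.ofHom (sp (p j) (le_pt (p j) hj))) := by
    rw [← cancel_mono V.2.1.1.fromSpec, Category.assoc, V.2.1.1.toSpecΓ_fromSpec, ht,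
      map_sp_fromSpec (p j) V.2.1.1 (le_pt (p j) hj)]
  have h2 : V.1.ι ≫ iS R = (V.1.toSpecΓ ≫ Spec.map (CommRingCat.ofHom ((thT η.toDefSch).π (le_top : V.1 ≤ ⊤)))) ≫
      ιS R V := ι_iS R V
  have h3 : CommRingCat.ofHom ((thT η.toDefSch).π (le_top : V.1 ≤ ⊤)) ≫
      CommRingCat.ofHom (sp (p j) (le_pt (p j) hj)) =
      CommRingCat.ofHom (ptO η j hj) ≫ CommRingCat.ofHom (dual k k : Art k k).res.toRingHom := by
    ext s
    exact (res_ptO η j hj s).symm
  have h4 : Spec.map (CommRingCat.ofHom (sp (p j) (le_pt (p j) hj))) ≫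
      Spec.map (CommRingCat.ofHom ((thT η.toDefSch).π (le_top : V.1 ≤ ⊤))) =
      specRes (dual k k) ≫ Spec.map (CommRingCat.ofHom (ptO η j hj)) := by
    rw [← Spec.map_comp, h3, Spec.map_comp]
  have h5 : t ≫ (V.1.toSpecΓ ≫ Spec.map (CommRingCat.ofHom ((thT η.toDefSch).π (le_top : V.1 ≤ ⊤)))) =
      specRes (dual k k) ≫ Spec.map (CommRingCat.ofHom (ptO η j hj)) :=
    (Category.assoc _ _ _).symm.trans ((congrArg (fun z => z ≫ _) h1).trans h4)
  have h6 : p j ≫ iS R = (specRes (dual k k) ≫ Spec.map (CommRingCat.ofHom (ptO η j hj))) ≫ ιS R V := by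
    refine (congrArg (fun z => z ≫ iS R) ht.symm).trans ?_
    refine (Category.assoc _ _ _).trans ?_
    refine (congrArg (fun z => t ≫ z) h2).trans ?_
    refine (Category.assoc _ _ _).symm.trans ?_
    exact congrArg (fun z => z ≫ ιS R V) h5
  exact h6.trans (Category.assoc _ _ _)

variable (R) in
theorem exists_sectS (j : ι) : ∃ V : JS R, p j z0 ∈ V.1 := by
  obtain ⟨V, hV, -⟩ := exists_JS R (p j z0) ⊤ trivial
  exact ⟨V, hV⟩

variable (R) in
/-- The pointed deformation glued from a rigidification. -/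
noncomputable def twP : PtDefo.DefSch (Λ := k) X x p (dual k k) where
  toDefSch := twDef R
  sect j := secV R j (exists_sectS R j).choose (exists_sectS R j).choose_spec
  sect_f j := secV_f j _ _
  pt_sect j := pt_secV j _ _

theorem twP_sect (hR : RespR R) (j : ι) (V : JS R) (hj : p j z0 ∈ V.1) :
    (twP R).sect j = secV R j V hj := secV_eq hR j _ _ _ _

variable (R) in
/-- The identity. -/
noncomputable def psi : glS R ⟶ (pOb (twP R)).T.X := 𝟙 (glS R)

variable (R) in
theorem psi_j : (⊤ : X.Opens).ι ≫ iS R ≫ psi R = (pOb (twP R)).T.j :=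
  congrArg (fun t => (⊤ : X.Opens).ι ≫ t) (Category.comp_id (iS R))

variable (R) in
theorem psi_s : psi R ≫ (pOb (twP R)).st = strS R := Category.id_comp _

variable (R) in
theorem psi_κ (V : JS R) (m : Sec (Coh.structureModule X) V.1) :
    muV R (psi R) (psi_j R) V ((pOb (twP R)).κ V.2.1 le_top m) = (pOb η).κ V.2.1 le_top m := by
  refine κ_of_comm η.toDefSch (twDef R) V.2.1 (muV R (psi R) (psi_j R) V) ?_ ?_ m
  · exact muV_st R (psi R) (psi_j R) (psi_s R) V (Z := ⊤) (le_pre _ _) _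
  · intro s
    exact π_muV R (psi R) (psi_j R) V s

theorem psi_pt (hR : RespR R) (V : JS R) (l : ι) (hl : p l z0 ∈ V.1)
    (s : Γ((thT (twP R).toDefSch).X, (thT (twP R).toDefSch).im V.1)) :
    ptO η l hl (muV R (psi R) (psi_j R) V s) = ptO (twP R) l hl s := by
  have h1 : Spec.map (CommRingCat.ofHom (ptO η l hl)) ≫ ιS R V ≫ psi R = (twP R).sect l := by
    rw [twP_sect hR l V hl]
    unfold secV
    exact congrArg (fun t => Spec.map (CommRingCat.ofHom (ptO η l hl)) ≫ t) (Category.comp_id (ιS R V))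
  have h2 := le_sec (twP R).toDefSch (p l) ((twP R).sect l : _ ⟶ (thT (twP R).toDefSch).X) (pt_thi (twP R) l) hl
  have h3 : (⊤ : (spec (dual k k : Art k k)).Opens) ≤
      (Spec.map (CommRingCat.ofHom (ptO η l hl)) ≫ ιS R V ≫ psi R) ⁻¹ᵁ (pOb (twP R)).T.im V.1 := by
    rw [h1]; exact h2
  refine (sp_map (ιS R V ≫ psi R) (CommRingCat.ofHom (ptO η l hl)) (le_nu R (psi R) (psi_j R) V) h3 s).symm.trans ?_
  exact sp_congr h1 h3 h2 s

/-- Every class is the class of a pointed deformation. -/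
theorem exists_def_of_class (B₀ : Band (xD x) (Coh.structureModule X) e G₀) (B : PBand (ptDat x p) e G)
    (η : PtDefo.DefSch (Λ := k) X x p (dual k k)) (c : CohTop.H G 1) :
    ∃ ξ : PtDefo.DefSch (Λ := k) X x p (dual k k), PCls B (pOb η) (pOb ξ) c := by
  obtain ⟨T, D, hT, hc⟩ := exists_diff_of_class (X := (⊤ : Opens Y)) isTerminalTop c
  let R := torRig B₀ B (pOb η) D hT
  have hR : RespR R := fun r s => resp_eS R rfl r s
  exact ⟨twP R, (pcls_twist R rfl (psi R) (psi_j R) (psi_s R) (psi_κ R) (fun V l hl s => psi_pt hR V l hl s) hc).2⟩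

end K819
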