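import Groth.Agent.PtDefo.K819.RetBC
import Groth.Agent.PtDefo.K819.SectLift

/-!
# Local triviality of deformations of smooth pointed schemes
-/

set_option autoImplicit false
universe u

open CategoryTheory CategoryTheory.Limits AlgebraicGeometry Opposite TopologicalSpace
open Groth.Agent.Sga67.Sec (Sec res resO res_res resO_resO res_self resO_self res_smul
  eq_of_locally eqO_of_locally)
open K696.Base K696.Thk K679
open ArtFun ArtFun.Art K681.AffDef

namespace K819

section alg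

/-- Lifting through a ring homomorphism with nilpotent kernel. -/
theorem exists_lift_range {R B₀ B C : Type u} [CommRing R] [CommRing B₀] [CommRing B] [CommRing C] (a : R →+* B₀)
    (ha : a.Smooth) (b : R →+* B) (g : B →+* C) (f : B₀ →+* C) (hfg : ∀ r, f (a r) = g (b r))
    (h : ∀ y, f y ∈ g.range) (hn : IsNilpotent (RingHom.ker g)) :
    ∃ σ : B₀ →+* B, (∀ y, g (σ y) = f y) ∧ ∀ r, σ (a r) = b r := by
  algebraize [a, b]
  let _ : Algebra R C := (g.comp b).toAlgebra
  let g' : B →ₐ[R] C := { g with commutes' := fun r => rfl }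
  let f' : B₀ →ₐ[R] C := { f with commutes' := fun r => hfg r }
  have hf' : ∀ y, f' y ∈ g'.range := h
  have hn' : IsNilpotent (RingHom.ker (g'.rangeRestrict : B →+* g'.range)) := by
    have h1 : RingHom.ker (g'.rangeRestrict : B →+* g'.range) = RingHom.ker g := by
      ext y
      rw [RingHom.mem_ker, RingHom.mem_ker]
      constructor
      · intro hy
        exact congrArg Subtype.val hy
      · intro hy
        exact Subtype.ext hy
    rw [h1]; exact hn
  have hsm : Algebra.FormallySmooth R B₀ := inferInstance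
  let σ := Algebra.FormallySmooth.liftOfSurjective (f'.codRestrict g'.range hf') g'.rangeRestrict
    g'.rangeRestrict_surjective hn'
  refine ⟨σ.toRingHom, fun y => ?_, fun r => σ.commutes r⟩
  have h2 := Algebra.FormallySmooth.liftOfSurjective_apply (f'.codRestrict g'.range hf') g'.rangeRestrict
    g'.rangeRestrict_surjective hn' y
  exact congrArg Subtype.val h2

end alg

variable {k : Type u} [Field k] {X : Scheme.{u}} {x : X ⟶ specPt k} {ι : Type u} {p : ι → (specPt k ⟶ X)}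

theorem smooth_stA [Smooth x] {V : X.Opens} (hV : IsAffineOpen V) : (stA x V).Smooth := by
  have h1 : Smooth (Spec.map (CommRingCat.ofHom (stA x V))) := by
    rw [map_stA hV]; infer_instance
  exact (HasRingHomProperty.Spec_iff (P := @Smooth)).1 h1

variable {A : Art k k} (ξ : PtDefo.DefSch (Λ := k) X x p A)

theorem isNilpotent_ker_π {V : X.Opens} (hV : IsAffineOpen V) :
    IsNilpotent (RingHom.ker ((thT ξ.toDefSch).π (le_top : V ≤ ⊤))) := by
  rw [ker_π ξ.toDefSch hV]
  obtain ⟨n, hn⟩ := K565.ArtTools.isNilpotent_maximalIdeal A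
  refine ⟨n, ?_⟩
  rw [← Ideal.map_pow, hn, Ideal.zero_eq_bot, Ideal.map_bot]
  rfl

/-- The value at a marked section, over any base. -/
noncomputable def ptA (j : ι) {V : X.Opens} (hj : p j z0 ∈ V) :
    Γ((thT ξ.toDefSch).X, (thT ξ.toDefSch).im V) →+* A :=
  sp (ξ.sect j : _ ⟶ (thT ξ.toDefSch).X) (le_sec ξ.toDefSch (p j) _ (pt_thi ξ j) hj)

theorem res_ptA (j : ι) {V : X.Opens} (hj : p j z0 ∈ V) (s : Γ((thT ξ.toDefSch).X, (thT ξ.toDefSch).im V)) :
    A.res (ptA ξ j hj s) = sp (p j) (le_pt (p j) hj) ((thT ξ.toDefSch).π (le_top : V ≤ ⊤) s) :=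
  res_sp ξ.toDefSch (p j) _ (pt_thi ξ j) hj s

theorem ptA_stA (j : ι) {V : X.Opens} (hj : p j z0 ∈ V) (a : A) :
    ptA ξ j hj (stA (thf ξ.toDefSch) _ a) = a := sp_stA_sec ξ.toDefSch _ (sect_thf ξ j) _ _

/-- The inclusion of the field. -/
def inA (A : Art k k) : k →+* A := algebraMap k A

theorem res_inA (c : k) : A.res (inA A c) = c := A.res.commutes c

theorem map_inA : Spec.map (CommRingCat.ofHom (inA A)) = specOver A := rfl

/-- The lift of the identity on functions, carrying marked points to constant sections. -/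
theorem exists_sigma [Smooth x] {V : X.Opens} (hV : IsAffineOpen V)
    (hS : ∀ j l : ι, p j z0 ∈ V → p l z0 ∈ V → j = l) :
    ∃ σ : Γ(X, V) →+* Γ((thT ξ.toDefSch).X, (thT ξ.toDefSch).im V),
      (∀ a, (thT ξ.toDefSch).π (le_top : V ≤ ⊤) (σ a) = a) ∧
      (∀ c : k, σ (stA x V c) = stA (thf ξ.toDefSch) _ (inA A c)) ∧
      ∀ (j : ι) (hj : p j z0 ∈ V) (a : Γ(X, V)), ptA ξ j hj (σ a) = inA A (sp (p j) (le_pt (p j) hj) a) := by
  let J := {j : ι // p j z0 ∈ V}
  let B := Γ((thT ξ.toDefSch).X, (thT ξ.toDefSch).im V)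
  let g₂ : B →+* (J → A) := RingHom.pi fun j => ptA ξ j.1 j.2
  let g : B →+* Γ(X, V) × (J → A) := ((thT ξ.toDefSch).π (le_top : V ≤ ⊤)).prod g₂
  let f₂ : Γ(X, V) →+* (J → A) := RingHom.pi fun j => (inA A).comp (sp (p j.1) (le_pt (p j.1) j.2))
  let f : Γ(X, V) →+* Γ(X, V) × (J → A) := (RingHom.id _).prod f₂
  have hfg : ∀ c : k, f (stA x V c) = g (stA (thf ξ.toDefSch) _ (inA A c)) := by
    intro c
    refine Prod.ext ?_ ?_
    · change stA x V c = (thT ξ.toDefSch).π _ (stA (thf ξ.toDefSch) _ (inA A c))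
      rw [π_stA, res_inA]
    · funext j
      change inA A (sp (p j.1) (le_pt (p j.1) j.2) (stA x V c)) =
        ptA ξ j.1 j.2 (stA (thf ξ.toDefSch) _ (inA A c))
      rw [ptA_stA]
      have h1 : p j.1 ≫ x = Spec.map (𝟙 (CommRingCat.of k)) := by rw [ξ.pt_comp j.1, Spec.map_id]
      have h2 := sp_stA x (p j.1) (𝟙 (CommRingCat.of k)) h1 (le_pt (p j.1) j.2) c
      exact congrArg (inA A) h2
  have hr : ∀ y, f y ∈ g.range := by
    intro y
    obtain ⟨s, hs⟩ := π_surjective (thT ξ.toDefSch) hV (le_top : V ≤ ⊤) y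
    by_cases hJ : Nonempty J
    · obtain ⟨j₀⟩ := hJ
      let d : A := ptA ξ j₀.1 j₀.2 s - inA A (sp (p j₀.1) (le_pt (p j₀.1) j₀.2) y)
      have hd : A.res d = 0 := by
        rw [map_sub, res_ptA, hs, res_inA, sub_self]
      refine ⟨s - stA (thf ξ.toDefSch) _ d, ?_⟩
      refine Prod.ext ?_ ?_
      · change (thT ξ.toDefSch).π (le_top : V ≤ ⊤) (s - stA (thf ξ.toDefSch) _ d) = y
        rw [map_sub, π_stA, hd, map_zero, sub_zero, hs]
      · funext j
        have hj : j = j₀ := Subtype.ext (hS j.1 j₀.1 j.2 j₀.2)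
        subst hj
        change ptA ξ j.1 j.2 (s - stA (thf ξ.toDefSch) _ d) = inA A (sp (p j.1) (le_pt (p j.1) j.2) y)
        rw [map_sub, ptA_stA, sub_sub_cancel]
    · refine ⟨s, Prod.ext hs ?_⟩
      funext j
      exact absurd ⟨j⟩ hJ
  have hn : IsNilpotent (RingHom.ker g) := by
    obtain ⟨n, hn⟩ := isNilpotent_ker_π ξ hV
    refine ⟨n, ?_⟩
    have h1 : RingHom.ker g ≤ RingHom.ker ((thT ξ.toDefSch).π (le_top : V ≤ ⊤)) := by
      intro y hy
      exact congrArg Prod.fst hy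
    have h2 := Ideal.pow_right_mono h1 n
    rw [hn] at h2
    exact le_bot_iff.1 h2
  obtain ⟨σ, h1, h2⟩ := exists_lift_range (stA x V) (smooth_stA hV)
    ((stA (thf ξ.toDefSch) ((thT ξ.toDefSch).im V)).comp (inA A)) g f hfg hr hn
  refine ⟨σ, fun a => congrArg Prod.fst (h1 a), h2, fun j hj a => ?_⟩
  exact congrFun (congrArg Prod.snd (h1 a)) ⟨j, hj⟩

theorem secU_toSpecΓ {V : X.Opens} (hV : IsAffineOpen V) (j : ι) (hj : p j z0 ∈ V) :
    secU ξ j hj ≫ ((thT ξ.toDefSch).im V).toSpecΓ = Spec.map (CommRingCat.ofHom (ptA ξ j hj)) := by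
  have hV' : IsAffineOpen ((thT ξ.toDefSch).im V) := isAffineOpen_im (thT ξ.toDefSch) hV le_top
  apply (cancel_mono hV'.fromSpec).1
  refine (Category.assoc _ _ _).trans ?_
  rw [hV'.toSpecΓ_fromSpec, secU_ι]
  exact (map_sp_fromSpec (ξ.sect j : _ ⟶ (thT ξ.toDefSch).X) hV'
    (le_sec ξ.toDefSch (p j) (ξ.sect j : _ ⟶ (thT ξ.toDefSch).X) (pt_thi ξ j) hj)).symm

/-- Retractions over affine opens containing at most one marked point. -/
theorem nonempty_ret [Smooth x] {V : X.Opens} (hV : IsAffineOpen V)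
    (hS : ∀ j l : ι, p j z0 ∈ V → p l z0 ∈ V → j = l) : Nonempty (Ret ξ V) := by
  obtain ⟨σ, h1, h2, h3⟩ := exists_sigma ξ hV hS
  have hV' : IsAffineOpen ((thT ξ.toDefSch).im V) := isAffineOpen_im (thT ξ.toDefSch) hV le_top
  refine ⟨⟨((thT ξ.toDefSch).im V).toSpecΓ ≫ Spec.map (CommRingCat.ofHom σ) ≫ hV.fromSpec, ?_, ?_, ?_⟩⟩
  · have e1 : jU (thT ξ.toDefSch) (le_top : V ≤ ⊤) ≫ ((thT ξ.toDefSch).im V).toSpecΓ =
        V.toSpecΓ ≫ Spec.map (CommRingCat.ofHom ((thT ξ.toDefSch).π (le_top : V ≤ ⊤))) := by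
      have e2 := incS_fromSpec (thT ξ.toDefSch) hV (le_top : V ≤ ⊤)
      rw [← cancel_mono hV'.fromSpec, Category.assoc, hV'.toSpecΓ_fromSpec, jU_ι, ← e2]
      rfl
    rw [reassoc_of% e1, ← Spec.map_comp_assoc, ← CommRingCat.ofHom_comp]
    have e3 : ((thT ξ.toDefSch).π (le_top : V ≤ ⊤)).comp σ = RingHom.id _ := RingHom.ext h1
    have e4 : Spec.map (CommRingCat.ofHom (((thT ξ.toDefSch).π (le_top : V ≤ ⊤)).comp σ)) = 𝟙 (Spec Γ(X, V)) := by
      rw [e3]; exact Spec.map_id _
    refine (congrArg (fun t => V.toSpecΓ ≫ t ≫ hV.fromSpec) e4).trans ?_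
    rw [Category.id_comp, hV.toSpecΓ_fromSpec]
  · have e1 : hV.fromSpec ≫ x = Spec.map (CommRingCat.ofHom (stA x V)) := (map_stA hV x).symm
    rw [Category.assoc, Category.assoc, e1, ← Spec.map_comp, ← CommRingCat.ofHom_comp]
    have e2 : σ.comp (stA x V) = (stA (thf ξ.toDefSch) ((thT ξ.toDefSch).im V)).comp (inA A) := RingHom.ext h2
    have e3 : Spec.map (CommRingCat.ofHom (σ.comp (stA x V))) = hV'.fromSpec ≫ thf ξ.toDefSch ≫ specOver A := by
      rw [e2, CommRingCat.ofHom_comp, Spec.map_comp, map_inA]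
      have e4 := map_stA hV' (thf ξ.toDefSch)
      exact (congrArg (fun t => t ≫ specOver A) e4).trans (Category.assoc _ _ _)
    refine (congrArg (fun t => ((thT ξ.toDefSch).im V).toSpecΓ ≫ t) e3).trans ?_
    rw [hV'.toSpecΓ_fromSpec_assoc]
  · intro j hj
    have e1 := secU_toSpecΓ ξ hV j hj
    have e2 := map_sp_fromSpec (p j) hV (le_pt (p j) hj)
    have e3 : (ptA ξ j hj).comp σ = (inA A).comp (sp (p j) (le_pt (p j) hj)) := RingHom.ext (h3 j hj)
    rw [reassoc_of% e1]
    refine (Spec.map_comp_assoc (CommRingCat.ofHom σ) (CommRingCat.ofHom (ptA ξ j hj)) hV.fromSpec).symm.trans ?_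
    have e4 : Spec.map (CommRingCat.ofHom σ ≫ CommRingCat.ofHom (ptA ξ j hj)) =
        specOver A ≫ Spec.map (CommRingCat.ofHom (sp (p j) (le_pt (p j) hj))) := by
      have e5 : CommRingCat.ofHom σ ≫ CommRingCat.ofHom (ptA ξ j hj) =
          CommRingCat.ofHom (sp (p j) (le_pt (p j) hj)) ≫ CommRingCat.ofHom (inA A) :=
        congrArg CommRingCat.ofHom e3
      rw [e5, Spec.map_comp]
      rfl
    exact (congrArg (fun t => t ≫ hV.fromSpec) e4).trans ((Category.assoc _ _ _).trans (congrArg _ e2))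

/-- Two sections with the same image point are equal. -/
theorem section_ext (s t : specPt k ⟶ X) (hs : s ≫ x = 𝟙 _) (ht : t ≫ x = 𝟙 _) (h : s z0 = t z0) : s = t := by
  have hz : (z0 : specPt k) = IsLocalRing.closedPoint k := Subsingleton.elim _ _
  rw [hz] at h
  have key : ∀ (s : Spec (CommRingCat.of k) ⟶ X) (y : X), s (IsLocalRing.closedPoint k) = y →
      ∃ ψ : X.residueField y ⟶ CommRingCat.of k, Spec.map ψ ≫ X.fromSpecResidueField y = s := by
    rintro s _ rfl
    exact ⟨_, Scheme.descResidueField_stalkClosedPointTo_fromSpecResidueField k X s⟩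
  obtain ⟨a, ha⟩ := key s _ h
  obtain ⟨b, hb⟩ := key t _ rfl
  have h1 : Spec.map a ≫ (X.fromSpecResidueField (t (IsLocalRing.closedPoint k)) ≫ x) = 𝟙 _ := by
    rw [← Category.assoc, ha, hs]
  have h2 : Spec.map b ≫ (X.fromSpecResidueField (t (IsLocalRing.closedPoint k)) ≫ x) = 𝟙 _ := by
    rw [← Category.assoc, hb, ht]
  obtain ⟨c, hc⟩ := Spec.map_surjective (X.fromSpecResidueField (t (IsLocalRing.closedPoint k)) ≫ x)
  rw [← hc, ← Spec.map_comp, ← Spec.map_id, Spec.map_inj] at h1 h2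
  have hiso : IsIso a := by
    rw [ConcreteCategory.isIso_iff_bijective]
    refine ⟨a.hom.injective, fun y => ⟨c.hom y, ?_⟩⟩
    exact congr($(h1).hom y)
  have h3 : inv a = c := IsIso.inv_eq_of_inv_hom_id h1
  have h4 : c ≫ b = c ≫ a := h2.trans h1.symm
  have : IsIso c := h3 ▸ inferInstance
  have h5 : b = a := (cancel_epi c).1 h4
  exact ha.symm.trans ((congrArg (fun z => Spec.map z ≫ X.fromSpecResidueField _) h5.symm).trans hb)

/-- Around each point there is an affine open containing at most one marked point. -/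
theorem exists_nhd [IsSeparated x] [Finite ι] (hp : ∀ j, p j ≫ x = 𝟙 (specPt k)) (hinj : Function.Injective p) (y : X) :
    ∃ V : X.Opens, IsAffineOpen V ∧ y ∈ V ∧ ∀ j l : ι, p j z0 ∈ V → p l z0 ∈ V → j = l := by
  have hcl : ∀ j, IsClosed ({p j z0} : Set X) := by
    intro j
    have h1 : IsClosedImmersion (p j ≫ x) := by rw [hp]; infer_instance
    have h2 : IsClosedImmersion (p j) := IsClosedImmersion.of_comp (p j) x
    have h3 : ({p j z0} : Set X) = Set.range (p j) := by
      ext w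
      constructor
      · rintro rfl
        exact ⟨z0, rfl⟩
      · rintro ⟨v, rfl⟩
        rw [Subsingleton.elim v z0]
        rfl
    rw [h3]
    exact (p j).isClosedEmbedding.isClosed_range
  have hfin : IsClosed (⋃ j ∈ {j : ι | p j z0 ≠ y}, ({p j z0} : Set X)) :=
    (Set.toFinite _).isClosed_biUnion fun j _ => hcl j
  obtain ⟨_, ⟨V, hV, rfl⟩, hyV, hVU⟩ := X.isBasis_affineOpens.exists_subset_of_mem_open
    (show y ∈ (⋃ j ∈ {j : ι | p j z0 ≠ y}, ({p j z0} : Set X))ᶜ from by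
      intro hy
      obtain ⟨j, hj, hyj⟩ := Set.mem_iUnion₂.1 hy
      exact hj hyj.symm) hfin.isOpen_compl
  refine ⟨V, hV, hyV, fun j l hj hl => ?_⟩
  have key : ∀ j, p j z0 ∈ V → p j z0 = y := by
    intro j hj
    by_contra hne
    exact hVU hj (Set.mem_iUnion₂.2 ⟨j, hne, rfl⟩)
  exact hinj (section_ext (p j) (p l) (hp j) (hp l) ((key j hj).trans (key l hl).symm))

/-- Pointed deformations of a smooth scheme with distinct marked points are locally trivial. -/
theorem locRet [Smooth x] [IsSeparated x] [Finite ι] (hinj : Function.Injective p) : LocRet ξ := fun y => by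
  obtain ⟨V, hV, hyV, hS⟩ := exists_nhd (fun j => ξ.pt_comp j) hinj y
  exact ⟨V, hyV, nonempty_ret ξ hV hS⟩

end K819
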