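import Groth.Agent.PtDefo.K819.Glue2
import Groth.Agent.PtDefo.K819.TwDef
import Groth.Agent.PtDefo.K819.LocTriv
import Groth.Agent.PtDefo.K819.Lin

/-!
# The class map on first-order pointed deformations
-/

set_option autoImplicit false
universe u

open CategoryTheory CategoryTheory.Limits AlgebraicGeometry Opposite TopologicalSpace
open ArtFun ArtFun.Art
open K679

namespace K819

variable {k : Type u} [Field k] {X : Scheme.{u}} {x : X ⟶ specPt k} {ι : Type u} {p : ι → (specPt k ⟶ X)}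

/-- All pointed deformations over the dual numbers and over `k[ε₁, ε₂]` are locally trivial. -/
structure AllLoc (x : X ⟶ specPt k) (p : ι → (specPt k ⟶ X)) : Prop where
  l1 : ∀ ξ : PtDefo.DefSch (Λ := k) X x p (dual k k), LocRet ξ
  l2 : ∀ ξ : PtDefo.DefSch (Λ := k) X x p (dual2 k k), LocRet ξ

theorem allLoc [Smooth x] [IsSeparated x] [Finite ι] (hinj : Function.Injective p) : AllLoc x p :=
  ⟨fun ξ => locRet ξ hinj, fun ξ => locRet ξ hinj⟩

variable (hx : Flat x) (hp : ∀ j, p j ≫ x = 𝟙 (specPt k)) {Y : TopCat.{u}} {e : Y ≃ₜ X} {G₀ G : CohTop.Ab Y}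
  (B₀ : Band (xD x) (Coh.structureModule X) e G₀) (B : PBand (ptDat x p) e G) (hl : AllLoc x p)

include hl in
theorem locIso (ξ : PtDefo.DefSch (Λ := k) X x p (dual k k)) : LocIso (pOb (tau hx hp (dual k k))) (pOb ξ) :=
  (hl.l1 ξ).locIso hx hp

/-- The class of a deformation. -/
noncomputable def clsD (ξ : PtDefo.DefSch (Λ := k) X x p (dual k k)) : CohTop.H G 1 :=
  (exists_pcls B (locIso hx hp hl ξ)).choose

theorem pcls_clsD (ξ : PtDefo.DefSch (Λ := k) X x p (dual k k)) :
    PCls B (pOb (tau hx hp (dual k k))) (pOb ξ) (clsD hx hp B hl ξ) :=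
  (exists_pcls B (locIso hx hp hl ξ)).choose_spec

theorem clsD_eq {ξ : PtDefo.DefSch (Λ := k) X x p (dual k k)} {c : CohTop.H G 1}
    (h : PCls B (pOb (tau hx hp (dual k k))) (pOb ξ) c) : clsD hx hp B hl ξ = c :=
  PCls.unique (locIso hx hp hl ξ) (pcls_clsD hx hp B hl ξ) h

theorem clsD_eq_iff (ξ ξ' : PtDefo.DefSch (Λ := k) X x p (dual k k)) :
    clsD hx hp B hl ξ = clsD hx hp B hl ξ' ↔ Nonempty (PtDefo.DefSch.Iso ξ ξ') := by
  constructor
  · intro h
    have h1 := pcls_clsD hx hp B hl ξ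
    rw [h] at h1
    obtain ⟨f⟩ := exists_parr_of_pcls (locIso hx hp hl ξ) (locIso hx hp hl ξ') h1 (pcls_clsD hx hp B hl ξ')
    exact nonempty_iso_of_parr f
  · rintro ⟨φ⟩
    obtain ⟨f⟩ := nonempty_parr_of_iso φ
    exact (clsD_eq hx hp B hl ((pcls_clsD hx hp B hl ξ).of_arr (locIso hx hp hl ξ) f)).symm

/-- The class map. -/
noncomputable def clsM (z : (PtDefo.defFunctor (Λ := k) X x p).obj (dual k k)) : CohTop.H G 1 :=
  Quotient.lift (s := PtDefo.DefSch.setoid X x p (dual k k)) (clsD hx hp B hl)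
    (fun ξ ξ' h => (clsD_eq_iff hx hp B hl ξ ξ').2 h) z

theorem clsM_cl (ξ : PtDefo.DefSch (Λ := k) X x p (dual k k)) : clsM hx hp B hl ξ.cl = clsD hx hp B hl ξ := rfl

include B₀ in
theorem clsM_bijective : Function.Bijective (clsM hx hp B hl) := by
  constructor
  · intro z z' h
    obtain ⟨ξ, rfl⟩ := exists_rep z
    obtain ⟨ξ', rfl⟩ := exists_rep z'
    exact cl_eq_iff.2 ((clsD_eq_iff hx hp B hl ξ ξ').1 h)
  · intro c
    obtain ⟨ξ, hξ⟩ := exists_def_of_class B₀ B (tau hx hp (dual k k)) c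
    exact ⟨ξ.cl, clsD_eq hx hp B hl hξ⟩

theorem clsM_add (z : (PtDefo.defFunctor (Λ := k) X x p).obj (dual2 k k)) :
    clsM hx hp B hl ((PtDefo.defFunctor (Λ := k) X x p).map plus z) =
      clsM hx hp B hl ((PtDefo.defFunctor (Λ := k) X x p).map pr₁ z) +
        clsM hx hp B hl ((PtDefo.defFunctor (Λ := k) X x p).map pr₂ z) := by
  obtain ⟨η, rfl⟩ := exists_rep z
  refine clsD_eq hx hp B hl ?_
  exact pcls_add hx hp B (hl.l2 η) (PBC.canonical η pr₁) (PBC.canonical η pr₂) (PBC.canonical η plus)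
    (pcls_clsD hx hp B hl _) (pcls_clsD hx hp B hl _)

theorem clsM_scale (c : k) {σ : G ⟶ G} (hσ : IsScal B c σ)
    (z : (PtDefo.defFunctor (Λ := k) X x p).obj (dual k k)) :
    clsM hx hp B hl ((PtDefo.defFunctor (Λ := k) X x p).map (scale c) z) = Sheaf.H.map σ 1 (clsM hx hp B hl z) := by
  obtain ⟨η, rfl⟩ := exists_rep z
  refine clsD_eq hx hp B hl ?_
  exact pcls_scale hx hp B (hl.l1 η) (PBC.canonical η (scale c)) hσ (pcls_clsD hx hp B hl η)

include hx hp B₀ B hl in
/-- The class map and its properties. -/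
theorem exists_clsMap {H : Type u} [AddCommGroup H] [Module k H] (θ : CohTop.H G 1 ≃+ H) (σ : k → (G ⟶ G))
    (hσ : ∀ c, IsScal B c (σ c)) (hθ : ∀ (c : k) (h : CohTop.H G 1), θ (Sheaf.H.map (σ c) 1 h) = c • θ h) :
    ∃ C : (PtDefo.defFunctor (Λ := k) X x p).obj (dual k k) → H, Function.Bijective C ∧
      (∀ z : (PtDefo.defFunctor (Λ := k) X x p).obj (dual2 k k), C ((PtDefo.defFunctor (Λ := k) X x p).map plus z) =
        C ((PtDefo.defFunctor (Λ := k) X x p).map pr₁ z) + C ((PtDefo.defFunctor (Λ := k) X x p).map pr₂ z)) ∧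
      ∀ (c : k) (z : (PtDefo.defFunctor (Λ := k) X x p).obj (dual k k)),
        C ((PtDefo.defFunctor (Λ := k) X x p).map (scale c) z) = c • C z := by
  refine ⟨fun z => θ (clsM hx hp B hl z), θ.bijective.comp (clsM_bijective hx hp B₀ B hl), fun z => ?_, fun c z => ?_⟩
  · exact (congrArg θ (clsM_add hx hp B hl z)).trans (map_add θ _ _)
  · exact (congrArg θ (clsM_scale hx hp B hl c (hσ c) z)).trans (hθ c _)

/-- A bijection compatible with the operations of the tangent space is linear. -/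
theorem linearEquiv_of_bij {F F' : Art k k ⥤ Type (u + 1)} (φ : F' ⟶ F) (hφ : ∀ A, Function.Bijective (φ.app A))
    {H : Type u} [AddCommGroup H] [Module k H] (C : F'.obj (dual k k) → H) (hC : Function.Bijective C)
    (hadd : ∀ z : F'.obj (dual2 k k), C (F'.map plus z) = C (F'.map pr₁ z) + C (F'.map pr₂ z))
    (hsc : ∀ (c : k) (z : F'.obj (dual k k)), C (F'.map (scale c) z) = c • C z)
    (hex : ∀ a b : F'.obj (dual k k), ∃ z : F'.obj (dual2 k k), F'.map pr₁ z = a ∧ F'.map pr₂ z = b)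
    [TangentStr F] : Nonempty (TangentSpace F ≃ₗ[k] H) := by
  let E := Equiv.ofBijective _ (hφ (dual k k))
  have hE : ∀ a, φ.app (dual k k) (E.symm a) = a := fun a => E.apply_symm_apply a
  have hE' : ∀ a, E.symm (φ.app (dual k k) a) = a := fun a => E.symm_apply_apply a
  have hnat : ∀ {A B : Art k k} (g : A ⟶ B) (z : F'.obj A), φ.app B (F'.map g z) = F.map g (φ.app A z) :=
    fun g z => congr($(φ.naturality g) z)
  let cl : TangentSpace F → H := fun z => C (E.symm (TangentSpace.val z))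
  have hadd' : ∀ a b : TangentSpace F, cl (a + b) = cl a + cl b := by
    intro a b
    obtain ⟨z, h1, h2⟩ := hex (E.symm (TangentSpace.val a)) (E.symm (TangentSpace.val b))
    have h3 : (TangentSpace.mk (F.map pr₁ (φ.app _ z)) + TangentSpace.mk (F.map pr₂ (φ.app _ z)) : TangentSpace F) =
        TangentSpace.mk (F.map plus (φ.app _ z)) := TangentStr.add_eq (F := F) _
    have h4 : TangentSpace.mk (F.map pr₁ (φ.app _ z)) = a := by
      rw [← hnat, h1]; exact hE _
    have h5 : TangentSpace.mk (F.map pr₂ (φ.app _ z)) = b := by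
      rw [← hnat, h2]; exact hE _
    rw [h4, h5] at h3
    have h6 : cl (a + b) = C (F'.map plus z) := by
      rw [h3]
      change C (E.symm (F.map plus (φ.app _ z))) = _
      rw [← hnat, hE']
    rw [h6, hadd, h1, h2]
  have hsm : ∀ (c : k) (a : TangentSpace F), cl (c • a) = c • cl a := by
    intro c a
    have h1 : c • a = TangentSpace.mk (F.map (scale c) (TangentSpace.val a)) := TangentStr.smul_eq (F := F) c a
    rw [h1]
    change C (E.symm (F.map (scale c) (TangentSpace.val a))) = c • C (E.symm (TangentSpace.val a))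
    have h2 := hnat (scale c) (E.symm (TangentSpace.val a))
    rw [hE] at h2
    rw [← hsc, ← h2, hE']
  let f : TangentSpace F →ₗ[k] H :=
    { toFun := cl
      map_add' := hadd'
      map_smul' := hsm }
  exact ⟨LinearEquiv.ofBijective f (hC.comp E.symm.bijective)⟩

end K819
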