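import Groth.Agent.PtDefo.K819.ThDef
import Mathlib.RingTheory.Flat.EquationalCriterion

/-!
# First-order deformations as thickenings by the structure sheaf

For a deformation `ξ` over the dual numbers, `kap ξ hV : Γ(X, V) →+ Γ(ξ, V)` is multiplication of lifts by `ε`, and
`thOb ξ : ThOb (x ≫ specRes _) (Coh.structureModule X) ⊤`.
-/

set_option autoImplicit false
universe u

open CategoryTheory CategoryTheory.Limits AlgebraicGeometry Opposite TopologicalSpace
open Groth.Agent.Sga67.Sec (Sec res resO res_res resO_resO res_self resO_self res_smul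
  eq_of_locally eqO_of_locally)
open K696.Base K696.Thk K679
open ArtFun ArtFun.Art K681.AffDef

namespace K819

theorem mem_map_of_flat {A B : Type*} [CommRing A] [CommRing B] (φ : A →+* B) (hφ : φ.Flat) (a : A) (I : Ideal A)
    (hI : ∀ c, a * c = 0 → c ∈ I) (b : B) (hb : φ a * b = 0) : b ∈ I.map φ := by
  algebraize [φ]
  have h1 : Module.IsTrivialRelation (R := A) (M := B) (fun _ : Unit => a) (fun _ => b) := by
    apply Module.Flat.isTrivialRelation_of_sum_smul_eq_zero
    rw [Fintype.sum_unique]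
    exact hb
  obtain ⟨n, c, y, h2, h3⟩ := h1
  have h4 := h2 ()
  change b = _ at h4
  rw [h4]
  refine Ideal.sum_mem _ fun j _ => ?_
  rw [Algebra.smul_def]
  refine Ideal.mul_mem_right _ _ (Ideal.mem_map_of_mem _ (hI _ ?_))
  have := h3 j
  rwa [Fintype.sum_unique] at this

variable {k : Type u} [Field k]

/-- `ε`. -/
def eps : (dual k k : Art k k) := (DualNumber.eps : DualNumber k)

theorem eps_mul_eps : (eps : (dual k k : Art k k)) * eps = 0 := DualNumber.eps_mul_eps

theorem res_eps : (dual k k : Art k k).res (eps : (dual k k : Art k k)) = 0 := TrivSqZeroExt.fst_inr k (1 : k)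

theorem dual_aux1 (a : DualNumber k) : (DualNumber.eps : DualNumber k) * a = 0 ↔ TrivSqZeroExt.fst a = 0 := by
  constructor
  · intro h
    have h1 := congrArg TrivSqZeroExt.snd h
    simpa using h1
  · intro h
    ext
    · simp
    · simpa using h

theorem dual_aux2 (a : DualNumber k) (ha : TrivSqZeroExt.fst a = 0) :
    a = (DualNumber.eps : DualNumber k) * TrivSqZeroExt.inl (TrivSqZeroExt.snd a) := by
  ext
  · simpa using ha
  · simp

theorem eps_mul_eq_zero_iff (a : (dual k k : Art k k)) :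
    eps * a = 0 ↔ (dual k k : Art k k).res a = 0 := dual_aux1 a

theorem exists_eps_mul (a : (dual k k : Art k k)) (ha : (dual k k : Art k k).res a = 0) :
    ∃ b : (dual k k : Art k k), a = eps * b := ⟨_, dual_aux2 a ha⟩

variable {X : Scheme.{u}} {x : X ⟶ specPt k} (ξ : ArtFun.DefSch (Λ := k) X x (dual k k))

/-- `ε` as a function. -/
noncomputable def epsS (W : (thT ξ).X.Opens) : Γ((thT ξ).X, W) := stA (thf ξ) W eps

theorem res_epsS {W W' : (thT ξ).X.Opens} (h : W' ≤ W) : resO (thT ξ).X h (epsS ξ W) = epsS ξ W' := res_stA _ _ _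

theorem epsS_mul_self (W : (thT ξ).X.Opens) : epsS ξ W * epsS ξ W = 0 := by
  rw [epsS, ← map_mul, eps_mul_eps, map_zero]

theorem π_epsS (V : X.Opens) : (thT ξ).π (le_top : V ≤ ⊤) (epsS ξ _) = 0 := by
  rw [epsS, π_stA, res_eps, map_zero]

theorem exists_eq_epsS_mul {V : X.Opens} (hV : IsAffineOpen V) (s : Γ((thT ξ).X, (thT ξ).im V))
    (hs : (thT ξ).π (le_top : V ≤ ⊤) s = 0) : ∃ t, s = epsS ξ _ * t := by
  have h1 : s ∈ (IsLocalRing.maximalIdeal (dual k k : Art k k)).map (stA (thf ξ) ((thT ξ).im V)) := by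
    rw [← ker_π ξ hV]; exact hs
  have h2 : (IsLocalRing.maximalIdeal (dual k k : Art k k)).map (stA (thf ξ) ((thT ξ).im V)) ≤
      Ideal.span {epsS ξ ((thT ξ).im V)} := by
    rw [Ideal.map_le_iff_le_comap]
    intro a ha
    obtain ⟨b, rfl⟩ := exists_eps_mul a ((mem_maximalIdeal_iff _ _).1 ha)
    rw [Ideal.mem_comap, map_mul]
    exact Ideal.mul_mem_right _ _ (Ideal.subset_span rfl)
  obtain ⟨t, ht⟩ := Ideal.mem_span_singleton'.1 (h2 h1)
  exact ⟨t, by rw [← ht, mul_comm]⟩

theorem epsS_mul_eq_zero_of {V : X.Opens} (hV : IsAffineOpen V) (s : Γ((thT ξ).X, (thT ξ).im V))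
    (hs : (thT ξ).π (le_top : V ≤ ⊤) s = 0) : epsS ξ _ * s = 0 := by
  obtain ⟨t, rfl⟩ := exists_eq_epsS_mul ξ hV s hs
  rw [← mul_assoc, epsS_mul_self, zero_mul]

theorem π_eq_zero_of {V : X.Opens} (hV : IsAffineOpen V) (s : Γ((thT ξ).X, (thT ξ).im V))
    (hs : epsS ξ _ * s = 0) : (thT ξ).π (le_top : V ≤ ⊤) s = 0 := by
  rw [← RingHom.mem_ker, ker_π ξ hV]
  refine mem_map_of_flat _ (flat_stA ξ hV) (eps : (dual k k : Art k k)) _ ?_ s hs
  intro c hc
  rw [mem_maximalIdeal_iff, ← eps_mul_eq_zero_iff]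
  exact hc

theorem exists_lift_π {V : X.Opens} (hV : IsAffineOpen V) (m : Γ(X, V)) :
    ∃ s : Γ((thT ξ).X, (thT ξ).im V), (thT ξ).π (le_top : V ≤ ⊤) s = m := π_surjective (thT ξ) hV le_top m

/-- Multiplication by `ε` of a lift. -/
noncomputable def kap {V : X.Opens} (hV : IsAffineOpen V) : Γ(X, V) →+ Γ((thT ξ).X, (thT ξ).im V) where
  toFun m := epsS ξ _ * (exists_lift_π ξ hV m).choose
  map_zero' := epsS_mul_eq_zero_of ξ hV _ (exists_lift_π ξ hV 0).choose_spec
  map_add' m m' := by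
    rw [← mul_add, ← sub_eq_zero, ← mul_sub]
    apply epsS_mul_eq_zero_of ξ hV
    rw [map_sub, map_add, (exists_lift_π ξ hV _).choose_spec, (exists_lift_π ξ hV _).choose_spec,
      (exists_lift_π ξ hV _).choose_spec, sub_self]

theorem kap_π {V : X.Opens} (hV : IsAffineOpen V) (s : Γ((thT ξ).X, (thT ξ).im V)) :
    kap ξ hV ((thT ξ).π (le_top : V ≤ ⊤) s) = epsS ξ _ * s := by
  change epsS ξ _ * _ = _
  rw [← sub_eq_zero, ← mul_sub]
  apply epsS_mul_eq_zero_of ξ hV
  rw [map_sub, (exists_lift_π ξ hV _).choose_spec, sub_self]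

/-- The sections of the structure module. -/
def toO (V : X.Opens) : Sec (Coh.structureModule X) V →+ Γ(X, V) where
  toFun m := m
  map_zero' := rfl
  map_add' _ _ := rfl

theorem toO_injective (V : X.Opens) : Function.Injective (toO (X := X) V) := fun _ _ h => h

theorem toO_surjective (V : X.Opens) : Function.Surjective (toO (X := X) V) := fun a => ⟨a, rfl⟩

theorem toO_smul (V : X.Opens) (a : Γ(X, V)) (m : Sec (Coh.structureModule X) V) : toO V (a • m) = a * toO V m := rfl

theorem toO_res {V V' : X.Opens} (h : V' ≤ V) (m : Sec (Coh.structureModule X) V) :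
    toO V' (res _ h m) = resO X h (toO V m) := rfl

/-- The structure morphism to the spectrum of the dual numbers. -/
noncomputable abbrev xD (x : X ⟶ specPt k) : X ⟶ spec (dual k k : Art k k) := x ≫ specRes (dual k k)

/-- A first-order deformation as a thickening by the structure sheaf. -/
noncomputable def thOb : ThOb (xD x) (Coh.structureModule X) (⊤ : X.Opens) where
  T := thT ξ
  st := thf ξ
  w := thT_w ξ
  κ {V} hV _ := (kap ξ hV.1).comp (toO V)
  res_κ {V V'} hV hV' _ h' m := by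
    rw [AddMonoidHom.comp_apply, AddMonoidHom.comp_apply, toO_res]
    obtain ⟨s, hs⟩ := exists_lift_π ξ hV.1 (toO V m)
    rw [← hs, kap_π, (thT ξ).resO_π (le_top : V ≤ ⊤) h', map_mul, res_epsS]
    exact (kap_π ξ hV'.1 _).symm
  inj {V} hV _ m hm := by
    rw [AddMonoidHom.comp_apply] at hm
    obtain ⟨s, hs⟩ := exists_lift_π ξ hV.1 (toO V m)
    rw [← hs, kap_π] at hm
    apply toO_injective
    rw [← hs, π_eq_zero_of ξ hV.1 s hm, map_zero]
  π_κ {V} hV _ m := by
    rw [AddMonoidHom.comp_apply]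
    obtain ⟨s, hs⟩ := exists_lift_π ξ hV.1 (toO V m)
    rw [← hs, kap_π, map_mul, π_epsS, zero_mul]
  ex {V} hV _ s hs := by
    obtain ⟨t, rfl⟩ := exists_eq_epsS_mul ξ hV.1 s hs
    obtain ⟨m, hm⟩ := toO_surjective V ((thT ξ).π (le_top : V ≤ ⊤) t)
    exact ⟨m, by rw [AddMonoidHom.comp_apply, hm, kap_π]⟩
  smul {V} hV _ a m := by
    rw [AddMonoidHom.comp_apply, AddMonoidHom.comp_apply, toO_smul]
    obtain ⟨s, hs⟩ := exists_lift_π ξ hV.1 (toO V m)
    rw [← hs, ← map_mul, kap_π, kap_π]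
    ring

theorem thOb_κ {V : X.Opens} (hV : Sm (xD x) V) (m : Sec (Coh.structureModule X) V) :
    (thOb ξ).κ hV le_top m = kap ξ hV.1 (toO V m) := rfl

theorem thOb_κ_π {V : X.Opens} (hV : Sm (xD x) V) (m : Sec (Coh.structureModule X) V)
    (s : Γ((thT ξ).X, (thT ξ).im V)) (hs : (thT ξ).π (le_top : V ≤ ⊤) s = toO V m) :
    (thOb ξ).κ hV le_top m = epsS ξ _ * s := by
  rw [thOb_κ, ← hs, kap_π]
  rfl

end K819
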