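import Groth.Agent.PtDefo.K819.RetBC
import Groth.Agent.SGA7.K565.DefGlue

/-!
# Glueing pointed deformations over `k[ε₁, ε₂]`
-/

set_option autoImplicit false
universe u

open CategoryTheory CategoryTheory.Limits AlgebraicGeometry Opposite TopologicalSpace
open ArtFun ArtFun.Art

namespace K819

variable {k : Type u} [Field k] {X : Scheme.{u}} {x : X ⟶ specPt k} {ι : Type u} {p : ι → (specPt k ⟶ X)}

theorem cl_eq_iff {A : Art k k} {ξ ξ' : PtDefo.DefSch (Λ := k) X x p A} :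
    ξ.cl = ξ'.cl ↔ Nonempty (PtDefo.DefSch.Iso ξ ξ') :=
  ⟨fun h => Quotient.exact h, fun h => Quotient.sound h⟩

theorem exists_rep {A : Art k k} (z : (PtDefo.defFunctor (Λ := k) X x p).obj A) :
    ∃ ξ : PtDefo.DefSch (Λ := k) X x p A, ξ.cl = z := Quotient.exists_rep z

/-- Uniqueness of base change. -/
theorem PBC.nonempty_iso {B A : Art k k} {η : PtDefo.DefSch (Λ := k) X x p B} {g : B ⟶ A}
    {ξ ξ' : PtDefo.DefSch (Λ := k) X x p A} (b : PBC η g ξ) (b' : PBC η g ξ') : Nonempty (PtDefo.DefSch.Iso ξ ξ') := by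
  let c : K565.DefCat.BC η.toDefSch g ξ.toDefSch := ⟨b.t, b.isPullback, b.i_t⟩
  let c' : K565.DefCat.BC η.toDefSch g ξ'.toDefSch := ⟨b'.t, b'.isPullback, b'.i_t⟩
  obtain ⟨e, he⟩ := c.exists_iso c'
  refine ⟨⟨e, fun j => ?_⟩⟩
  apply c'.isPullback.hom_ext
  · rw [Category.assoc, he]
    exact (b.sect_t j).trans (b'.sect_t j).symm
  · rw [Category.assoc, e.hom_f, ξ.sect_f, ξ'.sect_f]

theorem PBC.map_cl {B A : Art k k} {η : PtDefo.DefSch (Λ := k) X x p B} {g : B ⟶ A}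
    {ξ : PtDefo.DefSch (Λ := k) X x p A} (b : PBC η g ξ) :
    (PtDefo.defFunctor (Λ := k) X x p).map g η.cl = ξ.cl := by
  rw [PtDefo.defFunctor_map_cl, cl_eq_iff]
  exact (PBC.canonical η g).nonempty_iso b

theorem specMap_toBase (A : Art k k) : specMap (toBase A) = specRes A := rfl

/-- Two pointed deformations over the dual numbers come from one over `k[ε₁, ε₂]`. -/
theorem exists_dual2 (hx : Flat x) (a b : (PtDefo.defFunctor (Λ := k) X x p).obj (dual k k)) :
    ∃ z : (PtDefo.defFunctor (Λ := k) X x p).obj (dual2 k k),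
      (PtDefo.defFunctor (Λ := k) X x p).map pr₁ z = a ∧ (PtDefo.defFunctor (Λ := k) X x p).map pr₂ z = b := by
  obtain ⟨ξ₁, rfl⟩ := exists_rep a
  obtain ⟨ξ₂, rfl⟩ := exists_rep b
  have hfp : IsFibreProd (pr₁ : (dual2 k k : Art k k) ⟶ dual k k) pr₂ (toBase _) (toBase _) := isFibreProd_dual2
  have hsu : Function.Surjective (toBase (dual k k : Art k k)) := (dual k k : Art k k).res_surjective
  let bb : ∀ ξ : PtDefo.DefSch (Λ := k) X x p (dual k k),
      K565.DefCat.BC ξ.toDefSch (toBase (dual k k : Art k k)) (ArtFun.DefSch.self (Λ := k) X x hx) := fun ξ =>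
    { t := ξ.i
      isPullback := ξ.isPullback
      i_t := Category.id_comp _ }
  obtain ⟨η₀, c₁, c₂, -⟩ := K565.DefGlue.exists_glued hfp hsu (bb ξ₁) (bb ξ₂)
  have hpo := K565.DefGlue.isPushout_spec hfp hsu
  have hw : ∀ j, specMap (toBase (dual k k : Art k k)) ≫ ξ₂.sect j ≫ c₂.t =
      specMap (toBase (dual k k : Art k k)) ≫ ξ₁.sect j ≫ c₁.t := by
    intro j
    have e1 : specMap (toBase (dual k k : Art k k)) ≫ ξ₂.sect j = p j ≫ ξ₂.i := (ξ₂.pt_sect j).symm
    have e2 : specMap (toBase (dual k k : Art k k)) ≫ ξ₁.sect j = p j ≫ ξ₁.i := (ξ₁.pt_sect j).symm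
    rw [← Category.assoc, ← Category.assoc, e1, e2]
    have e3 : (p j ≫ ξ₂.i) ≫ c₂.t = (p j ≫ ξ₁.i) ≫ c₁.t := by
      rw [Category.assoc, Category.assoc, c₂.i_t, c₁.i_t]
    exact e3
  let s : ι → (spec (dual2 k k : Art k k) ⟶ η₀.total) := fun j =>
    hpo.desc (ξ₂.sect j ≫ c₂.t) (ξ₁.sect j ≫ c₁.t) (hw j)
  have hs2 : ∀ j, specMap pr₂ ≫ s j = ξ₂.sect j ≫ c₂.t := fun j => hpo.inl_desc _ _ _
  have hs1 : ∀ j, specMap pr₁ ≫ s j = ξ₁.sect j ≫ c₁.t := fun j => hpo.inr_desc _ _ _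
  let η : PtDefo.DefSch (Λ := k) X x p (dual2 k k) :=
    { toDefSch := η₀
      sect := s
      sect_f := fun j => by
        apply hpo.hom_ext
        · rw [← Category.assoc, hs2, Category.assoc, c₂.isPullback.w, ← Category.assoc, ξ₂.sect_f, Category.id_comp,
            Category.comp_id]
        · rw [← Category.assoc, hs1, Category.assoc, c₁.isPullback.w, ← Category.assoc, ξ₁.sect_f, Category.id_comp,
            Category.comp_id]
      pt_sect := fun j => by
        have h1 : specRes (dual2 k k : Art k k) = specRes (dual k k) ≫ specMap pr₁ := (specRes_comp pr₁).symm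
        rw [h1, Category.assoc, hs1, ← Category.assoc, ← ξ₁.pt_sect, Category.assoc, c₁.i_t] }
  let b₁ : PBC η pr₁ ξ₁ := ⟨c₁.t, c₁.isPullback, c₁.i_t, fun j => (hs1 j).symm⟩
  let b₂ : PBC η pr₂ ξ₂ := ⟨c₂.t, c₂.isPullback, c₂.i_t, fun j => (hs2 j).symm⟩
  exact ⟨η.cl, b₁.map_cl, b₂.map_cl⟩

end K819
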