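import Groth.Agent.Deform.K679.Gerbe
import Groth.Agent.Fga.TorsorClass

/-!
# The class of an object of a gerbe relative to another one

For objects `i`, `j` of an elementwise gerbe `𝒢 : Grb G` which exist globally, the torsor `𝒢.arr i j` has a class in `H¹(X, G)`.
* `IsCls.sub`;
* `Grb.exists_arr_of_isCls`: `j` and `k` with the same class relative to `i` are globally isomorphic;
* `Grb.isCls_self`: the class of an object globally isomorphic to `i` is zero;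
* `Diff.toRig`: from a torsor to a rigidification of the one-object gerbe.
-/

set_option autoImplicit false
universe u

open CategoryTheory CategoryTheory.Limits Opposite TopologicalSpace
open Groth.Agent.Fga.Torsor
open K288.Sec (rs)

namespace K819.GrbCls

section sub

variable {C : Type u} [SmallCategory C] {J : GrothendieckTopology C}
  [HasSheafify J AddCommGrpCat.{u}] [HasExt.{u} (Sheaf J AddCommGrpCat.{u})] {X : C} (hX : IsTerminal X)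
  {T T' : Cᵒᵖ ⥤ Type u} {G G' : Sheaf J AddCommGrpCat.{u}} {D D' : Diff T G.obj} {c c' : Sheaf.H G 1}

/-- The class of a difference of difference operations. -/
theorem isCls_sub [EnoughInjectives (Sheaf J AddCommGrpCat.{u})] (h : IsCls hX D c)
    (h' : IsCls hX D' c') : IsCls hX (D.sub D') (c - c') := by
  obtain ⟨I, Q, i, p, w, hS, hI⟩ := exists_ses G
  obtain ⟨P, q, hq, hc⟩ := h.to_injective hX (𝟙 G) i p w hS hI
  obtain ⟨P', q', hq', hc'⟩ := h'.to_injective hX (𝟙 G) i p w hS hI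
  rw [Sheaf.H.map_id_apply] at hc hc'
  refine ⟨I, Q, i, p, w, hS, { φ := fun t => P.φ t - P'.φ t, map_φ := ?_, sub_φ := ?_ }, q - q', ?_, ?_⟩
  · intro U V f a
    rw [map_sub, P.map_φ, P'.map_φ]
  · intro U a b
    have h1 := P.sub_φ a b
    have h2 := P'.sub_φ a b
    rw [sub_sub_sub_comm, h1, h2]
    exact (map_sub (i.hom.app U).hom _ _).symm
  · intro U t
    rw [map_sub, hq, hq', map_sub]
  · rw [del_sub, hc, hc']

/-- The product of two presheaves of sets. -/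
def prodP (T T' : Cᵒᵖ ⥤ Type u) : Cᵒᵖ ⥤ Type u where
  obj U := T.obj U × T'.obj U
  map f := TypeCat.ofHom fun p => (T.map f p.1, T'.map f p.2)

/-- The first projection. -/
def fstP (T T' : Cᵒᵖ ⥤ Type u) : prodP T T' ⟶ T where
  app U := TypeCat.ofHom fun p => p.1

/-- The second projection. -/
def sndP (T T' : Cᵒᵖ ⥤ Type u) : prodP T T' ⟶ T' where
  app U := TypeCat.ofHom fun p => p.2

end sub

open K679

variable {X : TopCat.{u}} {G : CohTop.Ab X} (𝒢 : Grb G)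

/-- The whole space is terminal. -/
theorem locNonempty_arr {i j : 𝒢.ι} (hi : ⊤ ≤ 𝒢.W i) (hj : ⊤ ≤ 𝒢.W j) :
    LocNonempty (Opens.grothendieckTopology X) (𝒢.arr i j) (⊤ : Opens X) := by
  refine ⟨{ arrows := fun V _ => Nonempty (𝒢.Arr i j V)
            downward_closed := fun {V W _} ⟨f⟩ g => ⟨𝒢.res g.le f⟩ }, ?_, fun V f h => h⟩
  intro x _
  obtain ⟨U, hxU, hU⟩ := 𝒢.loc i j x (hi trivial) (hj trivial)
  exact ⟨U, homOfLE le_top, hU, hxU⟩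

/-- `c` is the class of `j` relative to `i`. -/
def Cls (i j : 𝒢.ι) (c : CohTop.H G 1) : Prop :=
  IsCls (X := (⊤ : Opens X)) isTerminalTop (𝒢.arrD i j) c

theorem exists_cls {i j : 𝒢.ι} (hi : ⊤ ≤ 𝒢.W i) (hj : ⊤ ≤ 𝒢.W j) : ∃ c, Cls 𝒢 i j c :=
  exists_isCls (X := (⊤ : Opens X)) isTerminalTop (𝒢.arrD i j) (locNonempty_arr 𝒢 hi hj)

theorem Cls.unique {i j : 𝒢.ι} (hi : ⊤ ≤ 𝒢.W i) (hj : ⊤ ≤ 𝒢.W j) {c c' : CohTop.H G 1}
    (h : Cls 𝒢 i j c) (h' : Cls 𝒢 i j c') : c = c' :=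
  IsCls.unique _ (locNonempty_arr 𝒢 hi hj) h h'

/-- Objects with the same class are isomorphic. -/
theorem exists_arr_of_cls {i j k : 𝒢.ι} (hi : ⊤ ≤ 𝒢.W i) (hj : ⊤ ≤ 𝒢.W j) (hk : ⊤ ≤ 𝒢.W k)
    {c : CohTop.H G 1} (h : Cls 𝒢 i j c) (h' : Cls 𝒢 i k c) : Nonempty (𝒢.Arr j k ⊤) := by
  have h1 := isCls_sub _ (h.pull _ (fstP (𝒢.arr i j) (𝒢.arr i k))) (h'.pull _ (sndP (𝒢.arr i j) (𝒢.arr i k)))
  rw [sub_self] at h1
  obtain ⟨Φ⟩ := h1.exists_potential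
  have hsub : ∀ {U : Opens X} (f f' : 𝒢.Arr i j U) (g g' : 𝒢.Arr i k U),
      Φ.φ (U := op U) (f, g) - Φ.φ (U := op U) (f', g') = 𝒢.d f f' - 𝒢.d g g' := fun {U} f f' g g' =>
    Φ.sub_φ (U := op U) (f, g) (f', g')
  have hmap : ∀ {U V : Opens X} (hVU : V ≤ U) (f : 𝒢.Arr i j U) (g : 𝒢.Arr i k U),
      rs G hVU (Φ.φ (U := op U) (f, g)) = Φ.φ (U := op V) (𝒢.res hVU f, 𝒢.res hVU g) :=
    fun {U V} hVU f g => Φ.map_φ (homOfLE hVU).op (f, g)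
  -- independence
  have key : ∀ {U : Opens X} (m : 𝒢.Arr j k U) (f f' : 𝒢.Arr i j U) (g g' : 𝒢.Arr i k U),
      𝒢.d (𝒢.comp f m) g = Φ.φ (U := op U) (f, g) → 𝒢.d (𝒢.comp f' m) g' = Φ.φ (U := op U) (f', g') := by
    intro U m f f' g g' hm
    have e1 := hsub f f' g g'
    have e2 : 𝒢.d (𝒢.comp f m) (𝒢.comp f' m) = 𝒢.d f f' := by
      rw [𝒢.d_comp, 𝒢.d_self, add_zero]
    have e3 := 𝒢.d_add (𝒢.comp f m) (𝒢.comp f' m) g
    have e4 := 𝒢.d_add (𝒢.comp f' m) g g'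
    rw [← hm] at e1
    rw [e2] at e3
    rw [← e4]
    have e5 : Φ.φ (U := op U) (f', g') = 𝒢.d (𝒢.comp f m) g - (𝒢.d f f' - 𝒢.d g g') := by
      rw [← e1]; abel
    rw [e5, ← e3]
    abel
  obtain ⟨g, -⟩ := 𝒢.exists_of_locally (i := j) (j := k) (U := ⊤)
    (fun V m => ∃ (f : 𝒢.Arr i j V) (g : 𝒢.Arr i k V), 𝒢.d (𝒢.comp f m) g = Φ.φ (U := op V) (f, g)) (by
      rintro V V' hV m ⟨f, g, hm⟩
      refine ⟨𝒢.res hV f, 𝒢.res hV g, ?_⟩
      rw [← hmap, ← hm, 𝒢.res_d, 𝒢.res_comp]) (by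
      rintro V m m' _ ⟨f, g, hm⟩ ⟨f', g', hm'⟩
      have e1 := key m' f' f g' g hm'
      have e2 := 𝒢.d_add (𝒢.comp f m) g (𝒢.comp f m')
      rw [𝒢.d_symm (𝒢.comp f m'), hm, e1, add_neg_cancel, 𝒢.d_comp, 𝒢.d_self, zero_add] at e2
      exact 𝒢.eq_of_d _ _ e2.symm) (by
      intro x _
      obtain ⟨U, hxU, ⟨f⟩⟩ := 𝒢.loc i j x (hi trivial) (hj trivial)
      obtain ⟨U', hxU', ⟨g⟩⟩ := 𝒢.loc i k x (hi trivial) (hk trivial)
      let f₀ := 𝒢.res (inf_le_left : U ⊓ U' ≤ U) f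
      let g₀ := 𝒢.res (inf_le_right : U ⊓ U' ≤ U') g
      obtain ⟨f₁⟩ := 𝒢.inv f₀
      obtain ⟨m, hm⟩ := 𝒢.act (𝒢.comp f₁ g₀)
        (Φ.φ (U := op (U ⊓ U')) (f₀, g₀) - 𝒢.d (𝒢.comp f₀ (𝒢.comp f₁ g₀)) g₀)
      refine ⟨U ⊓ U', ⟨hxU, hxU'⟩, le_top, m, f₀, g₀, ?_⟩
      have e1 := 𝒢.d_add (𝒢.comp f₀ m) (𝒢.comp f₀ (𝒢.comp f₁ g₀)) g₀
      rw [𝒢.d_comp, 𝒢.d_self, zero_add, hm, sub_add_cancel] at e1
      exact e1.symm)
  exact ⟨g⟩

/-- A morphism from a torsor to the torsor of isomorphisms computes the class. -/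
theorem cls_of_map {i j : 𝒢.ι} {T : (Opens X)ᵒᵖ ⥤ Type u} (D : Diff T G.obj)
    (hT : LocNonempty (Opens.grothendieckTopology X) T (⊤ : Opens X))
    (hi : ⊤ ≤ 𝒢.W i) (hj : ⊤ ≤ 𝒢.W j) {c : CohTop.H G 1}
    (hc : IsCls (X := (⊤ : Opens X)) isTerminalTop D c) (φ : T ⟶ 𝒢.arr i j)
    (hφ : ∀ {U : (Opens X)ᵒᵖ} (a b : T.obj U), (𝒢.arrD i j).d (φ.app U a) (φ.app U b) = D.d a b) :
    Cls 𝒢 i j c := by
  obtain ⟨c', hc'⟩ := exists_cls 𝒢 hi hj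
  have h1 := hc'.pull _ φ
  have h2 : (𝒢.arrD i j).pull φ = D := by
    obtain ⟨d, hd, hd'⟩ := D
    have h3 : @Diff.d _ _ _ _ ((𝒢.arrD i j).pull φ) = @d := by
      funext U a b
      exact hφ a b
    cases h3
    rfl
  rw [h2] at h1
  rw [IsCls.unique _ hT hc h1]
  exact hc'

end K819.GrbCls
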