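import Groth.Agent.Deform.K679.DerBand
import Groth.Agent.Dcoh.MonClosed
import Groth.Agent.Nrm16.K137.Basic
import Groth.Agent.PtDefo.K819.PArr

/-!
# The band of derivations `O_X → N` as sections of the sheaf Hom
-/

set_option autoImplicit false
universe u

open CategoryTheory CategoryTheory.Limits AlgebraicGeometry Opposite TopologicalSpace
open Groth.Agent.Sga67.Sec
open K696.Base K696.Thk K696.Diff K696.LHom K696.DerLoc K679 K679.DerBand OmegaSh

namespace K819.IdBand

section unP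

variable {X S₀ S : Scheme.{u}} {q : X ⟶ S₀} {s : S₀ ⟶ S} (N : X.Modules)

theorem le_id (V : X.Opens) : V ≤ (𝟙 X : X ⟶ X) ⁻¹ᵁ V := by rw [Scheme.Hom.id_preimage]

theorem id_le (V : X.Opens) : (𝟙 X : X ⟶ X) ⁻¹ᵁ V ≤ V := by rw [Scheme.Hom.id_preimage]

/-- Sections of the push-forward along the identity. -/
noncomputable def idP (V : X.Opens) : Sec (pN (𝟙 X) N) V ≃+ Sec N V where
  toFun m := res N (le_id V) (ofP (𝟙 X) N V m)
  invFun m := toP (𝟙 X) N V (res N (id_le V) m)
  left_inv m := by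
    change toP (𝟙 X) N V (res N _ (res N _ (ofP (𝟙 X) N V m))) = m
    rw [res_res, res_self, toP_ofP]
  right_inv m := by
    change res N _ (ofP (𝟙 X) N V (toP (𝟙 X) N V (res N _ m))) = m
    rw [ofP_toP, res_res, res_self]
  map_add' m m' := by rw [map_add, map_add]

theorem idP_apply (V : X.Opens) (m : Sec (pN (𝟙 X) N) V) : idP N V m = res N (le_id V) (ofP (𝟙 X) N V m) := rfl

theorem idP_smul (V : X.Opens) (a : Γ(X, V)) (m : Sec (pN (𝟙 X) N) V) : idP N V (a • m) = a • idP N V m := by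
  have h1 : resO X (le_id V) (ev (𝟙 X) (le_refl ((𝟙 X : X ⟶ X) ⁻¹ᵁ V)) a) = a := by
    rw [res_ev, ev_id]
    exact resO_self _ a
  rw [idP_apply, ofP_smul, res_smul, ← idP_apply, h1]

theorem idP_res {V V' : X.Opens} (h : V' ≤ V) (m : Sec (pN (𝟙 X) N) V) :
    idP N V' (res (pN (𝟙 X) N) h m) = res N h (idP N V m) := by
  rw [idP_apply, idP_apply, ofP_res, res_res, res_res]

/-- Derivations into the push-forward along the identity. -/
noncomputable def unP (p₀ : X ⟶ S) (U : X.Opens) : SDer p₀ (pN (𝟙 X) N) U ≃+ SDer p₀ N U where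
  toFun D :=
    { app := fun hV hU => (idP N _).toAddMonoidHom.comp (D.app hV hU)
      res_app := fun {V V'} hV hV' h h' a => by
        change idP N V' (D.app hV' _ (resO X h' a)) = res N h' (idP N V (D.app hV h a))
        rw [D.res_app hV hV' h h', idP_res]
      leib := fun {V} hV h a b => by
        change idP N V (D.app hV h (a * b)) = a • idP N V (D.app hV h b) + b • idP N V (D.app hV h a)
        rw [D.leib, map_add, idP_smul, idP_smul]
      kill := fun {V} hV h Z hZ c => by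
        change idP N V (D.app hV h _) = 0
        rw [D.kill, map_zero] }
  invFun D :=
    { app := fun hV hU => (idP N _).symm.toAddMonoidHom.comp (D.app hV hU)
      res_app := fun {V V'} hV hV' h h' a => by
        change (idP N V').symm (D.app hV' _ (resO X h' a)) = res _ h' ((idP N V).symm (D.app hV h a))
        rw [AddEquiv.symm_apply_eq, idP_res, AddEquiv.apply_symm_apply, D.res_app hV hV' h h']
      leib := fun {V} hV h a b => by
        change (idP N V).symm (D.app hV h (a * b)) =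
          a • (idP N V).symm (D.app hV h b) + b • (idP N V).symm (D.app hV h a)
        rw [AddEquiv.symm_apply_eq, map_add, idP_smul, idP_smul, AddEquiv.apply_symm_apply,
          AddEquiv.apply_symm_apply, D.leib]
      kill := fun {V} hV h Z hZ c => by
        change (idP N V).symm (D.app hV h _) = 0
        rw [D.kill, map_zero] }
  left_inv D := SDer.ext' fun V hV hU a => (idP N V).symm_apply_apply _
  right_inv D := SDer.ext' fun V hV hU a => (idP N V).apply_symm_apply _
  map_add' D D' := SDer.ext' fun V hV hU a => map_add (idP N V) _ _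

end unP

section pre

variable {X : Scheme.{u}} {Ω N : X.Modules} {U : X.Opens}

/-- Local homomorphisms out of the pull-back along the identity. -/
noncomputable def locPre : LocHom Ω N U ≃+ LocHom ((Scheme.Modules.pullback (𝟙 X)).obj Ω) N U where
  toFun := LocHom.pre ((Scheme.Modules.pullbackId X).hom.app Ω)
  invFun := LocHom.pre ((Scheme.Modules.pullbackId X).inv.app Ω)
  left_inv φ := LocHom.ext' fun W hW s => by
    rw [LocHom.pre_app, LocHom.pre_app]
    exact congrArg (φ.app hW) (appS_inv_hom ((Scheme.Modules.pullbackId X).app Ω) W s)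
  right_inv φ := LocHom.ext' fun W hW s => by
    rw [LocHom.pre_app, LocHom.pre_app]
    exact congrArg (φ.app hW) (appS_hom_inv ((Scheme.Modules.pullbackId X).app Ω) W s)
  map_add' φ ψ := map_add _ φ ψ

theorem locPre_app (φ : LocHom Ω N U) {W : X.Opens} (hW : W ≤ U)
    (s : Sec ((Scheme.Modules.pullback (𝟙 X)).obj Ω) W) :
    (locPre φ).app hW s = φ.app hW (appS ((Scheme.Modules.pullbackId X).hom.app Ω) W s) := rfl

open Groth.Agent.CohqB.HomSheaf in
/-- Sections of the sheaf Hom are local homomorphisms. -/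
noncomputable def secLoc (Ω N : X.Modules) (U : X.Opens) : Sec (homSheaf Ω N) U ≃+ LocHom Ω N U where
  toFun s :=
    { app := fun {W} hW => (comp (M := Ω) (N := N) s W hW).toAddMonoidHom
      app_smul := fun {W} h a t => (comp (M := Ω) (N := N) s W h).map_smul a t
      app_res := fun {W W'} h hW t => comp_map (M := Ω) (N := N) s h hW t }
  invFun φ := mkSec (fun V hV => φ.appL hV) (fun V W hV h m => φ.app_res hV h m)
  left_inv s := sec_ext fun V hV m => rfl
  right_inv φ := rfl
  map_add' s t := rfl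

end pre

section band

variable {X S₀ S : Scheme.{u}} {q : X ⟶ S₀} {s : S₀ ⟶ S} [IsClosedImmersion s]

theorem isPullback_id (q : X ⟶ S₀) (s : S₀ ⟶ S) [IsClosedImmersion s] : IsPullback (𝟙 X) q (q ≫ s) s :=
  ⟨⟨Category.id_comp _⟩, ⟨PullbackCone.IsLimit.mk _ (fun c => c.fst) (fun c => Category.comp_id _)
    (fun c => (cancel_mono s).1 ((Category.assoc _ _ _).trans c.condition))
    (fun c m h1 _ => (Category.comp_id m).symm.trans h1)⟩⟩

variable {Ω : X.Modules} {d : Der q Ω} (hd : IsUniversal d) (N : X.Modules)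

/-- The underlying homeomorphism. -/
abbrev eId (X : Scheme.{u}) : X.toTopCat ≃ₜ X := Homeomorph.refl _

theorem eId_apply (y : X.toTopCat) : eId X y = (𝟙 X : X ⟶ X) y := rfl

/-- Derivations are local homomorphisms. -/
noncomputable def locDer (U : X.Opens) : LocHom Ω N U ≃+ SDer (q ≫ s) N ((eId X).opensCongr U) :=
  locPre.trans ((derEquiv hd).symm.trans
    ((derEquivS (isPullback_id q s) (le_opensCongr_iff (i := 𝟙 X) (eId X) eId_apply U)).trans
      (unP N (q ≫ s) _)))

theorem hom_psec (V : X.Opens) (m : Sec Ω V) :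
    appS ((Scheme.Modules.pullbackId X).hom.app Ω) V
      (res ((Scheme.Modules.pullback (𝟙 X)).obj Ω) (le_id V) (psec (𝟙 X) Ω V m)) = m := by
  have e3 : ∀ (P : X.Modules) (y : Sec P V), res P (le_id V) (show Sec P ((𝟙 X : X ⟶ X) ⁻¹ᵁ V) from y) = y :=
    fun P y => res_self P le_rfl y
  refine (congrArg (appS ((Scheme.Modules.pullbackId X).hom.app Ω) V) (e3 _ (psec (𝟙 X) Ω V m))).trans ?_
  exact K137.Basic.id_pullSect Ω V m

theorem locDer_app (U : X.Opens) (φ : LocHom Ω N U) {V : X.Opens} (hV : Sm (q ≫ s) V)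
    (hVU : V ≤ (eId X).opensCongr U) (hVU' : V ≤ U) (a : Γ(X, V)) :
    (locDer (s := s) hd N U φ).app hV hVU a = φ.app hVU' (dsec d V a) := by
  have hU1 : (𝟙 X : X ⟶ X) ⁻¹ᵁ V ≤ U := (id_le V).trans hVU'
  have hV1 : (𝟙 X : X ⟶ X) ⁻¹ᵁ V ≤ (𝟙 X : X ⟶ X) ⁻¹ᵁ ((𝟙 X : X ⟶ X) ⁻¹ᵁ V) := le_id _
  have h1 : (locDer (s := s) hd N U φ).app hV hVU a =
      res N (le_id V) ((locPre φ).app hU1 (pd (𝟙 X) d hV1 (ev (𝟙 X) (le_refl _) a))) := rfl
  have h2 : resO X (le_id V) (ev (𝟙 X) (le_refl ((𝟙 X : X ⟶ X) ⁻¹ᵁ V)) a) = a := by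
    rw [res_ev, ev_id]
    exact resO_self _ a
  have h3 := pd_res (d := d) (g := 𝟙 X) hV1 (le_id V) (le_id V) (le_id V)
    (ev (𝟙 X) (le_refl ((𝟙 X : X ⟶ X) ⁻¹ᵁ V)) a)
  rw [h2] at h3
  rw [h1, ← LocHom.app_res _ hU1 (le_id V)]
  refine (congrArg ((locPre φ).app ((le_id V).trans hU1)) h3.symm).trans ?_
  rw [pd_apply, locPre_app]
  exact congrArg (φ.app hVU') (hom_psec V (dsec d V a))

/-- Sections of the abelian sheaf underlying a module. -/
noncomputable def secG (M : X.Modules) (U : X.Opens) : (Coh.toAb M).obj.obj (op U) ≃+ Sec M U where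
  toFun s := s
  invFun s := s
  left_inv _ := rfl
  right_inv _ := rfl
  map_add' _ _ := rfl

/-- Isomorphisms on sections. -/
noncomputable def isoSec {M M' : X.Modules} (e : M ≅ M') (U : X.Opens) : Sec M U ≃+ Sec M' U where
  toFun := appS e.hom U
  invFun := appS e.inv U
  left_inv m := appS_hom_inv e U m
  right_inv m := appS_inv_hom e U m
  map_add' m m' := map_add _ m m'

variable (Ω) [DCoh.HasSheafHom Ω]

/-- Sections of the sheaf Hom are local homomorphisms. -/
noncomputable def homSec (U : X.Opens) :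
    (Coh.toAb ((DCoh.sheafHom Ω).obj N)).obj.obj (op U) ≃+ LocHom Ω N U :=
  (secG _ U).trans ((isoSec ((Groth.Agent.Dcoh.MonClosed.sheafHomIso Ω).app N) U).trans (secLoc Ω N U))

theorem homSec_rs {U V : X.Opens} (h : V ≤ U) (t : (Coh.toAb ((DCoh.sheafHom Ω).obj N)).obj.obj (op U)) :
    homSec Ω N V (K288.Sec.rs (Coh.toAb ((DCoh.sheafHom Ω).obj N)) h t) = LocHom.rs h (homSec Ω N U t) := by
  have h1 : secG ((DCoh.sheafHom Ω).obj N) V (K288.Sec.rs (Coh.toAb ((DCoh.sheafHom Ω).obj N)) h t) =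
      res _ h (secG _ U t) := rfl
  change secLoc Ω N V (appS ((Groth.Agent.Dcoh.MonClosed.sheafHomIso Ω).app N).hom V
    (secG ((DCoh.sheafHom Ω).obj N) V (K288.Sec.rs (Coh.toAb ((DCoh.sheafHom Ω).obj N)) h t))) = _
  rw [h1, appS_res]
  rfl

theorem homSec_smul (r : Coh.Γtop X) (U : X.Opens) (t : (Coh.toAb ((DCoh.sheafHom Ω).obj N)).obj.obj (op U))
    {W : X.Opens} (hW : W ≤ U) (m : Sec Ω W) :
    (homSec Ω N U ((Coh.smulAb ((DCoh.sheafHom Ω).obj N) r).hom.app (op U) t)).app hW m =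
      resO X (le_top : W ≤ ⊤) r • (homSec Ω N U t).app hW m := by
  have h1 : secG ((DCoh.sheafHom Ω).obj N) U ((Coh.smulAb ((DCoh.sheafHom Ω).obj N) r).hom.app (op U) t) =
      resO X (le_top : U ≤ ⊤) r • secG _ U t := rfl
  have h2 : homSec Ω N U ((Coh.smulAb ((DCoh.sheafHom Ω).obj N) r).hom.app (op U) t) =
      secLoc Ω N U (resO X (le_top : U ≤ ⊤) r • appS ((Groth.Agent.Dcoh.MonClosed.sheafHomIso Ω).app N).hom U
        (secG _ U t)) := by
    change secLoc Ω N U (appS ((Groth.Agent.Dcoh.MonClosed.sheafHomIso Ω).app N).hom U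
      (secG ((DCoh.sheafHom Ω).obj N) U ((Coh.smulAb ((DCoh.sheafHom Ω).obj N) r).hom.app (op U) t))) = _
    rw [h1, map_smul]
  have h3 : ∀ (b : Γ(X, U)) (s' : Sec (Groth.Agent.CohqB.HomSheaf.homSheaf Ω N) U),
      (secLoc Ω N U (b • s')).app hW m = resO X hW b • (secLoc Ω N U s').app hW m := fun b s' => rfl
  rw [h2]
  refine (h3 _ _).trans ?_
  exact congrArg (fun b : Γ(X, W) => b • (homSec Ω N U t).app hW m) (resO_resO (le_top : U ≤ ⊤) hW r)

variable {Ω}

/-- The band of derivations `O_X → N`. -/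
noncomputable def band : Band (q ≫ s) N (eId X) (Coh.toAb ((DCoh.sheafHom Ω).obj N)) where
  β U := (homSec Ω N U).trans (locDer hd N U)
  nat {U V} h t := by
    change locDer hd N V (homSec Ω N V (K288.Sec.rs _ h t)) = SDer.rs _ (locDer hd N U (homSec Ω N U t))
    rw [homSec_rs]
    rfl

theorem band_app (U : X.Opens) (t : (Coh.toAb ((DCoh.sheafHom Ω).obj N)).obj.obj (op U)) {V : X.Opens}
    (hV : Sm (q ≫ s) V) (hVU : V ≤ (eId X).opensCongr U) (hVU' : V ≤ U) (a : Γ(X, V)) :
    (((band (s := s) hd N).β U) t).app hV hVU a = (homSec Ω N U t).app hVU' (dsec d V a) :=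
  locDer_app hd N U (homSec Ω N U t) hV hVU hVU' a

end band

end K819.IdBand
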