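import Groth.Agent.PtDefo.K819.Twist

/-!
# The class of a twisted thickening
-/

set_option autoImplicit false
universe u

open CategoryTheory CategoryTheory.Limits AlgebraicGeometry Opposite TopologicalSpace
open Groth.Agent.Sga67.Sec (Sec res resO res_res resO_resO res_self resO_self res_smul
  eq_of_locally eqO_of_locally)
open Groth.Agent.Fga.Torsor
open K696.Base K696.Thk K679

namespace K819

variable {X₀ S : Scheme.{u}} {p₀ : X₀ ⟶ S} {M : X₀.Modules}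
  {X : TopCat.{u}} {e : X ≃ₜ X₀} {G₀ G : CohTop.Ab X} {B₀ : Band p₀ M e G₀} {P : PtDat p₀ M}
  {B : PBand P e G} {a : POb P} {T : (Opens X)ᵒᵖ ⥤ Type u} {D : Diff T G.obj}
  {hT : LocNonempty (Opens.grothendieckTopology X) T (⊤ : Opens X)}

theorem resp_torE {U : Opens X} (r s : T.obj (op U)) : Resp a a (torE B a D r s) :=
  ((PArr.one a (e.opensCongr U)).add (B.β U (D.d r s))).2

theorem resp_eS (R : (grb B₀ (fun _ : PUnit.{u + 1} => (⊤ : X₀.Opens)) (fun _ => a.toThOb)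
    (fun _ _ _ _ _ => ⟨⊤, trivial, ⟨TArr.one a.toThOb le_rfl⟩⟩)).Rig) (hR : R = torRig B₀ B a D hT)
    {i j : PUnit.{u + 1}} {V : X₀.Opens} (r : RgS R i V) (s : RgS R j V) : Resp a a (eS R r s) := by
  subst hR
  intro l V' hV' hU hj t
  have h1 : Resp a a (torE B a D r s) := resp_torE r s
  exact h1 l hV' (hU.trans (le_cs (e := e) V)) hj t

variable {b : POb P}

theorem resp_twArr (R : (grb B₀ (fun _ : PUnit.{u + 1} => (⊤ : X₀.Opens)) (fun _ => a.toThOb)
    (fun _ _ _ _ _ => ⟨⊤, trivial, ⟨TArr.one a.toThOb le_rfl⟩⟩)).Rig) (hR : R = torRig B₀ B a D hT)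
    (ψ : glS R ⟶ b.T.X) (hψj : (⊤ : X₀.Opens).ι ≫ iS R ≫ ψ = b.T.j) (hψs : ψ ≫ b.st = strS R)
    (hκ : ∀ (V : JS R) (m : Sec M V.1), muV R ψ hψj V (b.κ V.2.1 le_top m) = a.κ V.2.1 le_top m)
    (hpt : ∀ (V : JS R) (j : P.J) (hj : P.x j ∈ V.1) (s : Γ(b.T.X, b.T.im V.1)),
      a.pt j V.2.1 hj (muV R ψ hψj V s) = b.pt j V.2.1 hj s)
    {i : PUnit.{u + 1}} {U : Opens X} (r : R.Rg i U) : Resp a b (twArr R ψ hψj hψs hκ r) := by
  intro j V hV hU hj s
  rw [twArr_app, resp_eS R hR _ _ j hV le_rfl hj]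
  exact hpt ⟨V, hV, i, ⟨rsS R r hU⟩⟩ j hj s

/-- The class of a twisted thickening is the class of the torsor. -/
theorem cls_twist {ι : Type u} (ob : ι → POb P)
    (hloc : ∀ (i j : ι) (x : X₀), ∃ U : X₀.Opens, x ∈ U ∧ Nonempty (PArr (ob i) (ob j) U)) (i j : ι)
    (R : (grb B₀ (fun _ : PUnit.{u + 1} => (⊤ : X₀.Opens)) (fun _ => (ob i).toThOb)
      (fun _ _ _ _ _ => ⟨⊤, trivial, ⟨TArr.one (ob i).toThOb le_rfl⟩⟩)).Rig)
    (hR : R = torRig B₀ B (ob i) D hT)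
    (ψ : glS R ⟶ (ob j).T.X) (hψj : (⊤ : X₀.Opens).ι ≫ iS R ≫ ψ = (ob j).T.j) (hψs : ψ ≫ (ob j).st = strS R)
    (hκ : ∀ (V : JS R) (m : Sec M V.1), muV R ψ hψj V ((ob j).κ V.2.1 le_top m) = (ob i).κ V.2.1 le_top m)
    (hpt : ∀ (V : JS R) (l : P.J) (hl : P.x l ∈ V.1) (s : Γ((ob j).T.X, (ob j).T.im V.1)),
      (ob i).pt l V.2.1 hl (muV R ψ hψj V s) = (ob j).pt l V.2.1 hl s)
    {c : CohTop.H G 1} (hc : IsCls (X := (⊤ : Opens X)) isTerminalTop D c) :
    GrbCls.Cls (pgrb B ob hloc) i j c := by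
  subst hR
  let φ : T ⟶ (pgrb B ob hloc).arr i j :=
    { app := fun U => TypeCat.ofHom fun r =>
        (⟨twArr (torRig B₀ B (ob i) D hT) ψ hψj hψs hκ (i := PUnit.unit) (U := U.unop) r,
          resp_twArr _ rfl ψ hψj hψs hκ hpt r⟩ : PArr (ob i) (ob j) (e.opensCongr U.unop))
      naturality := fun U V f => by
        refine ConcreteCategory.hom_ext _ _ fun r => ?_
        refine PArr.ext (TArr.ext' fun W hW hU s => ?_)
        have h1 : rsS (torRig B₀ B (ob i) D hT) (i := PUnit.unit) (U := V.unop) (T.map f r) hU =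
            rsS (torRig B₀ B (ob i) D hT) (i := PUnit.unit) (U := U.unop) r
              (hU.trans (e.opensCongr.monotone f.unop.le)) :=
          (torRig B₀ B (ob i) D hT).res_res _ _ _
        have h2 : ∀ (r' : RgS (torRig B₀ B (ob i) D hT) PUnit.unit W),
            rsS (torRig B₀ B (ob i) D hT) (i := PUnit.unit) (U := V.unop) (T.map f r) hU = r' →
            (twArr (torRig B₀ B (ob i) D hT) ψ hψj hψs hκ (i := PUnit.unit) (U := V.unop) (T.map f r)).app hW hU s =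
              (eS (torRig B₀ B (ob i) D hT) r' (rg (torRig B₀ B (ob i) D hT) ⟨W, hW, PUnit.unit, ⟨r'⟩⟩)).app hW le_rfl
                (muV (torRig B₀ B (ob i) D hT) ψ hψj ⟨W, hW, PUnit.unit, ⟨r'⟩⟩ s) := by
          intro r' hr'
          subst hr'
          rfl
        exact h2 _ h1 }
  refine GrbCls.cls_of_map (pgrb B ob hloc) D hT le_rfl le_rfl hc φ ?_
  intro U r r'
  change (B.β U.unop).symm (PArr.diff _ _) = D.d r r'
  rw [AddEquiv.symm_apply_eq]
  apply Subtype.ext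
  change TArr.diff (twArr (torRig B₀ B (ob i) D hT) ψ hψj hψs hκ (i := PUnit.unit) (U := U.unop) r)
    (twArr (torRig B₀ B (ob i) D hT) ψ hψj hψs hκ (i := PUnit.unit) (U := U.unop) r') = _
  refine (diff_twArr (torRig B₀ B (ob i) D hT) ψ hψj hψs hκ (i := PUnit.unit) (U := U.unop) r r').trans ?_
  exact TArr.diff_add' _ _

end K819
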