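import Groth.Agent.PtDefo.K819.PtOb
import Groth.Agent.PtDefo.K819.TwistCls

/-!
# Isomorphisms of pointed first-order deformations and arrows of thickenings
-/

set_option autoImplicit false
universe u

open CategoryTheory CategoryTheory.Limits AlgebraicGeometry Opposite TopologicalSpace
open Groth.Agent.Sga67.Sec (Sec res resO res_res resO_resO res_self resO_self res_smul
  eq_of_locally eqO_of_locally)
open K696.Base K696.Thk K679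
open ArtFun ArtFun.Art K681.AffDef

namespace K819

variable {k : Type u} [Field k] {X : Scheme.{u}} {x : X ⟶ specPt k} {ι : Type u} {p : ι → (specPt k ⟶ X)}

section kap

variable (ξ ξ' : ArtFun.DefSch (Λ := k) X x (dual k k))

/-- Ring maps compatible with the structure map and the reduction are compatible with `κ`. -/
theorem κ_of_comm {V : X.Opens} (hV : Sm (xD x) V) (f : Γ((thT ξ').X, (thT ξ').im V) →+* Γ((thT ξ).X, (thT ξ).im V))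
    (h1 : f (epsS ξ' _) = epsS ξ _)
    (h2 : ∀ s, (thT ξ).π (le_top : V ≤ ⊤) (f s) = (thT ξ').π (le_top : V ≤ ⊤) s) (m : Sec (Coh.structureModule X) V) :
    f ((thOb ξ').κ hV le_top m) = (thOb ξ).κ hV le_top m := by
  obtain ⟨s, hs⟩ := exists_lift_π ξ' hV.1 (toO V m)
  rw [thOb_κ_π ξ' hV m s hs]
  have h3 := thOb_κ_π ξ hV m (f s) (by rw [h2, hs])
  rw [h3]
  refine (map_mul f (epsS ξ' _) s).trans ?_
  rw [h1]
  rfl

end kap

/-- A global arrow of pointed thickenings gives an isomorphism of pointed deformations. -/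
theorem nonempty_iso_of_parr {ξ ξ' : PtDefo.DefSch (Λ := k) X x p (dual k k)} (f : PArr (pOb ξ) (pOb ξ') ⊤) :
    Nonempty (PtDefo.DefSch.Iso ξ ξ') := by
  obtain ⟨φ, h1, h2, h3⟩ := f.1.exists_iso
  refine ⟨⟨⟨φ, h2, ?_⟩, ?_⟩⟩
  · have h4 : (⊤ : X.Opens).ι ≫ thi ξ.toDefSch ≫ φ.hom = (⊤ : X.Opens).ι ≫ thi ξ'.toDefSch := h1
    exact (cancel_epi (⊤ : X.Opens).ι).1 h4
  · intro j
    obtain ⟨V, hV, hj, -⟩ := exists_sm (xD x) (p j z0) ⊤ trivial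
    have e1 := map_sp_fromSpec (ξ.sect j : _ ⟶ (thT ξ.toDefSch).X) (isAffineOpen_im (thT ξ.toDefSch) hV.1 le_top)
      (le_sec ξ.toDefSch (p j) _ (pt_thi ξ j) hj)
    have e2 := map_sp_fromSpec (ξ'.sect j : _ ⟶ (thT ξ'.toDefSch).X) (isAffineOpen_im (thT ξ'.toDefSch) hV.1 le_top)
      (le_sec ξ'.toDefSch (p j) _ (pt_thi ξ' j) hj)
    have e3 := h3 V hV
    have e4 : CommRingCat.ofHom (f.1.app hV le_top) ≫ CommRingCat.ofHom (sp (ξ.sect j : _ ⟶ (thT ξ.toDefSch).X)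
        (le_sec ξ.toDefSch (p j) _ (pt_thi ξ j) hj)) =
        CommRingCat.ofHom (sp (ξ'.sect j : _ ⟶ (thT ξ'.toDefSch).X)
          (le_sec ξ'.toDefSch (p j) _ (pt_thi ξ' j) hj)) := by
      ext s
      exact f.2 j hV le_top hj s
    refine (congrArg (fun t => t ≫ φ.hom) e1.symm).trans ?_
    refine Eq.trans ?_ e2
    refine (Category.assoc _ _ _).trans ?_
    refine (congrArg (fun t => Spec.map _ ≫ t) e3).trans ?_
    rw [← e4]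
    exact (Spec.map_comp_assoc _ _ _).symm

theorem sp_lift {R : CommRingCat.{u}} {Y : Scheme.{u}} {U : Y.Opens} {t : Spec R ⟶ U.toScheme} {σ : Spec R ⟶ Y}
    (ht : t ≫ U.ι = σ) {W : Y.Opens} (hW : W ≤ U) (hσ : ⊤ ≤ σ ⁻¹ᵁ W) (hle : ⊤ ≤ t ⁻¹ᵁ (U.ι ⁻¹ᵁ W))
    (r : Γ(U.toScheme, U.ι ⁻¹ᵁ W)) : sp σ hσ (down U hW r) = sp t hle r := by
  have h0 : ⊤ ≤ (t ≫ U.ι) ⁻¹ᵁ W := by rw [ht]; exact hσ
  rw [← sp_congr ht h0 hσ, sp_comp t U.ι hle (le_refl _) h0, ev_down]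

section ofHom

variable (ξ ξ' : PtDefo.DefSch (Λ := k) X x p (dual k k)) {U : X.Opens}

variable (h : ((thT ξ.toDefSch).im U).toScheme ⟶ (thT ξ'.toDefSch).X)
  (hj : jU (thT ξ.toDefSch) (le_top : U ≤ ⊤) ≫ h = X.homOfLE (le_top : U ≤ ⊤) ≫ (thT ξ'.toDefSch).j)
  (hst : h ≫ thf ξ'.toDefSch = ((thT ξ.toDefSch).im U).ι ≫ thf ξ.toDefSch)
  (hpt : ∀ (j : ι) (hj : p j z0 ∈ U), secU ξ j hj ≫ h = (ξ'.sect j : _ ⟶ (thT ξ'.toDefSch).X))

include hst in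
theorem appOfHom_epsS {V : X.Opens} (hVU : V ≤ U) :
    appOfHom (a := (pOb ξ).toThOb) (b := (pOb ξ').toThOb) (le_top : U ≤ ⊤) (le_top : U ≤ ⊤) h hj hVU
      (epsS ξ'.toDefSch _) = epsS ξ.toDefSch _ :=
  appOfHom_st (a := (pOb ξ).toThOb) (b := (pOb ξ').toThOb) (le_top : U ≤ ⊤) (le_top : U ≤ ⊤) h hj hst hVU
    (le_pre _ _) _

include hpt in
theorem ptO_appOfHom {V : X.Opens} (hVU : V ≤ U) (j : ι) (hjV : p j z0 ∈ V)
    (s : Γ((thT ξ'.toDefSch).X, (thT ξ'.toDefSch).im V)) :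
    ptO ξ j hjV (appOfHom (a := (pOb ξ).toThOb) (b := (pOb ξ').toThOb) (le_top : U ≤ ⊤) (le_top : U ≤ ⊤) h hj hVU s) =
      ptO ξ' j hjV s := by
  have h1 : (⊤ : (spec (dual k k : Art k k)).Opens) ≤
      (secU ξ j (hVU hjV) ≫ ((thT ξ.toDefSch).im U).ι) ⁻¹ᵁ (thT ξ.toDefSch).im V := by
    rw [secU_ι]; exact le_sec ξ.toDefSch (p j) _ (pt_thi ξ j) hjV
  have h1' : (⊤ : (spec (dual k k : Art k k)).Opens) ≤
      secU ξ j (hVU hjV) ⁻¹ᵁ (((thT ξ.toDefSch).im U).ι ⁻¹ᵁ (thT ξ.toDefSch).im V) := h1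
  refine (sp_lift (secU_ι ξ j (hVU hjV)) ((thT ξ.toDefSch).im_mono hVU)
    (le_sec ξ.toDefSch (p j) _ (pt_thi ξ j) hjV) h1' _).trans ?_
  have h2 : (⊤ : (spec (dual k k : Art k k)).Opens) ≤ (secU ξ j (hVU hjV) ≫ h) ⁻¹ᵁ (thT ξ'.toDefSch).im V := by
    rw [hpt]; exact le_sec ξ'.toDefSch (p j) _ (pt_thi ξ' j) hjV
  refine (sp_comp (secU ξ j (hVU hjV)) h h1' (le_ofHom (a := (pOb ξ).toThOb) (b := (pOb ξ').toThOb) (le_top : U ≤ ⊤) (le_top : U ≤ ⊤) h hj (V := V)) h2 s).symm.trans ?_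
  exact sp_congr (hpt j (hVU hjV)) _ _ s

/-- The arrow given by a morphism of schemes. -/
noncomputable def parrOfHom : PArr (pOb ξ) (pOb ξ') U :=
  ⟨TArr.ofHom (a := (pOb ξ).toThOb) (b := (pOb ξ').toThOb) (le_top : U ≤ ⊤) (le_top : U ≤ ⊤) h hj hst
    (fun _ hV hVU m => κ_of_comm ξ.toDefSch ξ'.toDefSch hV _ (appOfHom_epsS ξ ξ' h hj hst hVU)
      (fun s => π_appOfHom (a := (pOb ξ).toThOb) (b := (pOb ξ').toThOb) (le_top : U ≤ ⊤) (le_top : U ≤ ⊤)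
        h hj hVU s) m),
    fun j _ _ hU hjV s => ptO_appOfHom ξ ξ' h hj hpt hU j hjV s⟩

theorem parrOfHom_app {V : X.Opens} (hV : Sm (xD x) V) (hVU : V ≤ U)
    (s : Γ((thT ξ'.toDefSch).X, (thT ξ'.toDefSch).im V)) :
    (parrOfHom ξ ξ' h hj hst hpt).1.app hV hVU s =
      appOfHom (a := (pOb ξ).toThOb) (b := (pOb ξ').toThOb) (le_top : U ≤ ⊤) (le_top : U ≤ ⊤) h hj hVU s := rfl

end ofHom

/-- An isomorphism of pointed deformations gives a global arrow. -/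
theorem nonempty_parr_of_iso {ξ ξ' : PtDefo.DefSch (Λ := k) X x p (dual k k)} (φ : PtDefo.DefSch.Iso ξ ξ') :
    Nonempty (PArr (pOb ξ) (pOb ξ') ⊤) := by
  obtain ⟨g, e0, e1, e2⟩ : ∃ g : (thT ξ.toDefSch).X ⟶ (thT ξ'.toDefSch).X, thi ξ.toDefSch ≫ g = thi ξ'.toDefSch ∧
      g ≫ thf ξ'.toDefSch = thf ξ.toDefSch ∧
      ∀ j, (ξ.sect j : _ ⟶ (thT ξ.toDefSch).X) ≫ g = (ξ'.sect j : _ ⟶ (thT ξ'.toDefSch).X) :=
    ⟨φ.iso.hom, φ.i_hom, φ.hom_f, φ.sect_hom⟩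
  refine ⟨parrOfHom ξ ξ' (((thT ξ.toDefSch).im ⊤).ι ≫ g) ?_ ?_ ?_⟩
  · have h1 := jU_ι (thT ξ.toDefSch) (le_top : (⊤ : X.Opens) ≤ ⊤)
    rw [reassoc_of% h1, thT_j, thT_j, Category.assoc, e0]
  · rw [Category.assoc, e1]
  · intro j hj
    refine (Category.assoc _ _ _).symm.trans ?_
    exact (congrArg (· ≫ g) (secU_ι ξ j hj)).trans (e2 j)

end K819
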