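import Groth.Agent.PtDefo.K819.DualOb
import Groth.Agent.PtDefo.K819.PArr

/-!
# First-order deformations of pointed schemes as thickenings with marked points
-/

set_option autoImplicit false
universe u

open CategoryTheory CategoryTheory.Limits AlgebraicGeometry Opposite TopologicalSpace
open Groth.Agent.Sga67.Sec (Sec res resO res_res resO_resO res_self resO_self res_smul
  eq_of_locally eqO_of_locally)
open K696.Base K696.Thk K679
open ArtFun ArtFun.Art K681.AffDef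

namespace K819

variable {k : Type u} [Field k]

section general

/-- The point of the spectrum of the field. -/
def z0 : specPt k := (⊥ : PrimeSpectrum k)

instance subsingleton_specPt : Subsingleton (specPt k) := inferInstanceAs (Subsingleton (PrimeSpectrum k))

variable {X : Scheme.{u}} {x : X ⟶ specPt k}

theorem le_pt (q : specPt k ⟶ X) {V : X.Opens} (h : q z0 ∈ V) : (⊤ : (specPt k).Opens) ≤ q ⁻¹ᵁ V := by
  intro y _
  rw [Subsingleton.elim y z0]
  exact h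

variable {A : Art k k} (ξ : ArtFun.DefSch (Λ := k) X x A)

theorem mem_im_thi {V : X.Opens} (y : X) : thi ξ y ∈ (thT ξ).im V ↔ y ∈ V := by
  have h1 : (thT ξ).j (⟨y, show y ∈ (⊤ : X.Opens) from trivial⟩ : (⊤ : X.Opens)) = thi ξ y := by
    rw [thT_j]; exact Scheme.Hom.comp_apply _ _ _
  rw [← h1]
  exact mem_thIm (thT ξ) _

theorem le_sec (q : specPt k ⟶ X) (σ : spec A ⟶ (thT ξ).X) (hσ : q ≫ thi ξ = specRes A ≫ σ) {V : X.Opens}
    (h : q z0 ∈ V) : (⊤ : (spec A).Opens) ≤ σ ⁻¹ᵁ (thT ξ).im V := by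
  intro y _
  obtain ⟨w, rfl⟩ := (surjective_specRes A).surj y
  change σ (specRes A w) ∈ (thT ξ).im V
  rw [← Scheme.Hom.comp_apply, ← hσ, Scheme.Hom.comp_apply, mem_im_thi]
  rw [Subsingleton.elim w z0]
  exact h

theorem ev_thi {V : X.Opens} (h : V ≤ thi ξ ⁻¹ᵁ (thT ξ).im V) (s : Γ((thT ξ).X, (thT ξ).im V)) :
    ev (thi ξ) h s = (thT ξ).π (le_top : V ≤ ⊤) s := by
  rw [Th.π_apply]
  have h1 : (⊤ : X.Opens).ι ⁻¹ᵁ V ≤ ((⊤ : X.Opens).ι ≫ thi ξ) ⁻¹ᵁ (thT ξ).im V := fun y hy => h hy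
  have h2 := ev_comp (⊤ : X.Opens).ι (thi ξ) h (le_refl ((⊤ : X.Opens).ι ⁻¹ᵁ V)) h1 s
  have h3 : ev (thT ξ).j ((thT ξ).le_preimage_im V) s = ev ((⊤ : X.Opens).ι ≫ thi ξ) h1 s := rfl
  rw [h3, ← h2, down_ev]

/-- The reduction of the value of a function at a section. -/
theorem res_sp (q : specPt k ⟶ X) (σ : spec A ⟶ (thT ξ).X) (hσ : q ≫ thi ξ = specRes A ≫ σ) {V : X.Opens}
    (h : q z0 ∈ V) (s : Γ((thT ξ).X, (thT ξ).im V)) :
    A.res (sp σ (le_sec ξ q σ hσ h) s) = sp q (le_pt q h) ((thT ξ).π (le_top : V ≤ ⊤) s) := by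
  have h1 : V ≤ thi ξ ⁻¹ᵁ (thT ξ).im V := fun y hy => (mem_im_thi ξ y).2 hy
  have h2 : (⊤ : (specPt k).Opens) ≤ (q ≫ thi ξ) ⁻¹ᵁ (thT ξ).im V := (le_pt q h).trans (q.preimage_mono h1)
  have h3 := sp_comp q (thi ξ) (le_pt q h) h1 h2 s
  rw [ev_thi] at h3
  rw [← h3, sp_congr hσ h2 (by rw [← hσ]; exact h2)]
  exact (sp_map σ (CommRingCat.ofHom A.res.toRingHom) (le_sec ξ q σ hσ h) _ s).symm

theorem sp_stA {R R' : CommRingCat.{u}} {Y : Scheme.{u}} (f : Y ⟶ Spec R) (ν : Spec R' ⟶ Y) (ρ : R ⟶ R')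
    (hν : ν ≫ f = Spec.map ρ) {W : Y.Opens} (h : ⊤ ≤ ν ⁻¹ᵁ W) (a : R) : sp ν h (stA f W a) = ρ a := by
  rw [sp_apply, ev_stA, stA_congr hν]
  have h3 := stA_map (𝟙 (Spec R')) ρ ⊤ a
  rw [Category.id_comp] at h3
  rw [h3, stA_id, ← ConcreteCategory.comp_apply, Iso.inv_hom_id, ConcreteCategory.id_apply]

theorem sp_stA_sec (σ : spec A ⟶ (thT ξ).X) (hσ : σ ≫ thf ξ = 𝟙 _) {W : (thT ξ).X.Opens} (h : ⊤ ≤ σ ⁻¹ᵁ W) (a : A) :
    sp σ h (stA (thf ξ) W a) = a :=
  sp_stA (thf ξ) σ (𝟙 _) (by rw [hσ, Spec.map_id]) h a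

end general

/-! ### The dual numbers -/

/-- The inclusion of the field in the dual numbers. -/
def inD : k →+* (dual k k : Art k k) := algebraMap k (DualNumber k)

theorem res_inD (c : k) : (dual k k : Art k k).res (inD c) = c := TrivSqZeroExt.fst_inl k c

theorem eps_mul_inD_res (a : (dual k k : Art k k)) : eps * inD ((dual k k : Art k k).res a) = eps * a := by
  rw [← sub_eq_zero, ← mul_sub, eps_mul_eq_zero_iff, map_sub, res_inD, sub_self]

theorem eps_mul_inD_injective (c : k) (h : (eps : (dual k k : Art k k)) * inD c = 0) : c = 0 := by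
  rw [eps_mul_eq_zero_iff, res_inD] at h
  exact h

variable {X : Scheme.{u}} (x : X ⟶ specPt k) {ι : Type u} (p : ι → (specPt k ⟶ X))

/-- The data of the marked points. -/
noncomputable def ptDat : PtDat (xD x) (Coh.structureModule X) where
  J := ι
  x j := p j z0
  R _ := (dual k k : Art k k)
  ring _ := inferInstance
  ev j V _ hj :=
    { toFun := fun m => eps * inD (sp (p j) (le_pt (p j) hj) (toO V m))
      map_zero' := by rw [map_zero, map_zero, map_zero, mul_zero]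
      map_add' := fun m m' => by rw [map_add, map_add, map_add, mul_add] }

variable {x p}

theorem ptDat_ev (j : ι) {V : X.Opens} (hV : Sm (xD x) V) (hj : p j z0 ∈ V) (m : Sec (Coh.structureModule X) V) :
    (ptDat x p).ev j hV hj m = (eps * inD (sp (p j) (le_pt (p j) hj) (toO V m)) : (dual k k : Art k k)) := rfl

theorem ptDat_ev_eq_zero_iff (j : ι) {V : X.Opens} (hV : Sm (xD x) V) (hj : p j z0 ∈ V)
    (m : Sec (Coh.structureModule X) V) :
    (ptDat x p).ev j hV hj m = (0 : (dual k k : Art k k)) ↔ sp (p j) (le_pt (p j) hj) (toO V m) = 0 := by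
  rw [ptDat_ev]
  constructor
  · exact eps_mul_inD_injective _
  · intro h
    rw [h, map_zero]
    exact mul_zero (eps : (dual k k : Art k k))

section gen

variable {A : Art k k} (ξ : PtDefo.DefSch (Λ := k) X x p A)

theorem sect_thf (j : ι) : (ξ.sect j : spec A ⟶ (thT ξ.toDefSch).X) ≫ thf ξ.toDefSch = 𝟙 _ :=
  ξ.sect_f j

theorem pt_thi (j : ι) : p j ≫ thi ξ.toDefSch = specRes A ≫ (ξ.sect j : _ ⟶ (thT ξ.toDefSch).X) :=
  ξ.pt_sect j

/-- A marked section, as a morphism to an open neighbourhood. -/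
noncomputable def secU {U : X.Opens} (j : ι) (hj : p j z0 ∈ U) :
    spec A ⟶ ((thT ξ.toDefSch).im U).toScheme :=
  IsOpenImmersion.lift ((thT ξ.toDefSch).im U).ι (ξ.sect j : _ ⟶ (thT ξ.toDefSch).X) (by
    rw [Scheme.Opens.range_ι]
    rintro _ ⟨y, rfl⟩
    exact le_sec ξ.toDefSch (p j) _ (pt_thi ξ j) hj (Set.mem_univ y))

theorem secU_ι {U : X.Opens} (j : ι) (hj : p j z0 ∈ U) :
    secU ξ j hj ≫ ((thT ξ.toDefSch).im U).ι = (ξ.sect j : _ ⟶ (thT ξ.toDefSch).X) :=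
  IsOpenImmersion.lift_fac _ _ _

end gen

variable (ξ : PtDefo.DefSch (Λ := k) X x p (dual k k))

/-- The value at a marked section. -/
noncomputable def ptO (j : ι) {V : X.Opens} (hj : p j z0 ∈ V) :
    Γ((thT ξ.toDefSch).X, (thT ξ.toDefSch).im V) →+* (dual k k : Art k k) :=
  sp (ξ.sect j : _ ⟶ (thT ξ.toDefSch).X) (le_sec ξ.toDefSch (p j) _ (pt_thi ξ j) hj)

theorem res_ptO (j : ι) {V : X.Opens} (hj : p j z0 ∈ V) (s : Γ((thT ξ.toDefSch).X, (thT ξ.toDefSch).im V)) :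
    (dual k k : Art k k).res (ptO ξ j hj s) = sp (p j) (le_pt (p j) hj) ((thT ξ.toDefSch).π (le_top : V ≤ ⊤) s) :=
  res_sp ξ.toDefSch (p j) _ (pt_thi ξ j) hj s

theorem ptO_epsS (j : ι) {V : X.Opens} (hj : p j z0 ∈ V) :
    ptO ξ j hj (epsS ξ.toDefSch _) = (eps : (dual k k : Art k k)) :=
  sp_stA_sec ξ.toDefSch _ (sect_thf ξ j) _ _

theorem ptO_κ (j : ι) {V : X.Opens} (hV : Sm (xD x) V) (hj : p j z0 ∈ V) (m : Sec (Coh.structureModule X) V) :
    ptO ξ j hj ((thOb ξ.toDefSch).κ hV le_top m) = (ptDat x p).ev j hV hj m := by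
  obtain ⟨s, hs⟩ := exists_lift_π ξ.toDefSch hV.1 (toO V m)
  rw [thOb_κ_π ξ.toDefSch hV m s hs, ptDat_ev, ← hs, ← res_ptO]
  refine (map_mul (ptO ξ j hj) (epsS ξ.toDefSch _) s).trans ?_
  rw [eps_mul_inD_res, ptO_epsS]

/-- A pointed first-order deformation as a thickening with marked points. -/
noncomputable def pOb : POb (ptDat x p) where
  toThOb := thOb ξ.toDefSch
  pt j _ _ hj := ptO ξ j hj
  res_pt _ _ _ _ _ _ _ s := sp_res _ _ _ _ s
  pt_κ j _ hV hj m := ptO_κ ξ j hV hj m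

theorem pOb_pt (j : ι) {V : X.Opens} (hV : Sm (xD x) V) (hj : p j z0 ∈ V)
    (s : Γ((thT ξ.toDefSch).X, (thT ξ.toDefSch).im V)) :
    (pOb ξ).pt j hV hj s = ptO ξ j hj s := rfl

end K819
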