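import Groth.Prelude.Def_ArtFun6
import Groth.Agent.PtDefo.K819.PtIso
import Groth.Agent.PtDefo.K819.PCls

/-!
# Local retractions of pointed deformations

`Ret ξ U`: the retractions over `U` of the deformation `ξ` of `X` over `A` onto `X`, carrying the marked sections to the constant
sections; for `A` the dual numbers they are the local isomorphisms with the trivial deformation (`Ret.arr`).
-/

set_option autoImplicit false
universe u

open CategoryTheory CategoryTheory.Limits AlgebraicGeometry Opposite TopologicalSpace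
open Groth.Agent.Sga67.Sec (Sec res resO res_res resO_resO res_self resO_self res_smul
  eq_of_locally eqO_of_locally)
open Groth.Agent.Fga.Torsor
open K696.Base K696.Thk K679
open ArtFun ArtFun.Art K681.AffDef

namespace K819

variable {k : Type u} [Field k] {X : Scheme.{u}} {x : X ⟶ specPt k} {ι : Type u} {p : ι → (specPt k ⟶ X)}

section gen

variable {A : Art k k} (ξ : PtDefo.DefSch (Λ := k) X x p A)

/-- Retractions over `U`. -/
@[ext]
structure Ret (U : X.Opens) where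
  r : ((thT ξ.toDefSch).im U).toScheme ⟶ X
  j_r : jU (thT ξ.toDefSch) (le_top : U ≤ ⊤) ≫ r = U.ι
  r_x : r ≫ x = ((thT ξ.toDefSch).im U).ι ≫ thf ξ.toDefSch ≫ specOver A
  pt_r : ∀ (j : ι) (hj : p j z0 ∈ U), secU ξ j hj ≫ r = specOver A ≫ p j

theorem jU_homOfLE {U U' : X.Opens} (h : U' ≤ U) :
    jU (thT ξ.toDefSch) (le_top : U' ≤ ⊤) ≫ (thT ξ.toDefSch).X.homOfLE ((thT ξ.toDefSch).im_mono h) =
      X.homOfLE h ≫ jU (thT ξ.toDefSch) (le_top : U ≤ ⊤) := by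
  rw [← cancel_mono ((thT ξ.toDefSch).im U).ι, Category.assoc, Category.assoc, Scheme.homOfLE_ι, jU_ι, jU_ι,
    Scheme.homOfLE_homOfLE_assoc]

theorem secU_homOfLE {U U' : X.Opens} (h : U' ≤ U) (j : ι) (hj : p j z0 ∈ U') :
    secU ξ j hj ≫ (thT ξ.toDefSch).X.homOfLE ((thT ξ.toDefSch).im_mono h) = secU ξ j (h hj) := by
  rw [← cancel_mono ((thT ξ.toDefSch).im U).ι, Category.assoc, Scheme.homOfLE_ι, secU_ι, secU_ι]

variable {ξ}

/-- Restriction of retractions. -/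
noncomputable def Ret.rs {U U' : X.Opens} (h : U' ≤ U) (r : Ret ξ U) : Ret ξ U' where
  r := (thT ξ.toDefSch).X.homOfLE ((thT ξ.toDefSch).im_mono h) ≫ r.r
  j_r := by rw [← Category.assoc, jU_homOfLE ξ h, Category.assoc, r.j_r, Scheme.homOfLE_ι]
  r_x := by rw [Category.assoc, r.r_x, ← Category.assoc, Scheme.homOfLE_ι]
  pt_r j hj := by rw [← Category.assoc, secU_homOfLE ξ h, r.pt_r]

theorem Ret.rs_self {U : X.Opens} (r : Ret ξ U) (h : U ≤ U) : r.rs h = r := by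
  apply Ret.ext
  change (thT ξ.toDefSch).X.homOfLE _ ≫ r.r = r.r
  rw [Scheme.homOfLE_rfl]
  exact Category.id_comp _

theorem Ret.rs_rs {U U' U'' : X.Opens} (h : U' ≤ U) (h' : U'' ≤ U') (r : Ret ξ U) :
    (r.rs h).rs h' = r.rs (h'.trans h) := by
  apply Ret.ext
  change (thT ξ.toDefSch).X.homOfLE _ ≫ (thT ξ.toDefSch).X.homOfLE _ ≫ r.r = (thT ξ.toDefSch).X.homOfLE _ ≫ r.r
  rw [Scheme.homOfLE_homOfLE_assoc]

theorem Ret.le_pre {U : X.Opens} (r : Ret ξ U) {V : X.Opens} :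
    ((thT ξ.toDefSch).im U).ι ⁻¹ᵁ ((thT ξ.toDefSch).im V) ≤ r.r ⁻¹ᵁ V := by
  intro y hy
  obtain ⟨z, rfl⟩ := (surjective_jU (thT ξ.toDefSch) (le_top : U ≤ ⊤)).surj y
  change r.r (jU _ _ z) ∈ V
  rw [← Scheme.Hom.comp_apply, r.j_r]
  have h3 : ((thT ξ.toDefSch).im U).ι (jU (thT ξ.toDefSch) (le_top : U ≤ ⊤) z) ∈ (thT ξ.toDefSch).im V := hy
  rw [← Scheme.Hom.comp_apply, jU_ι, Scheme.Hom.comp_apply] at h3
  have h4 := (mem_thIm (thT ξ.toDefSch) _).1 h3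
  exact (congrArg (fun t => t ∈ V) (Scheme.homOfLE_apply (le_top : U ≤ ⊤) z)).mp h4

/-- Pull-back of functions. -/
noncomputable def Ret.fn {U : X.Opens} (r : Ret ξ U) {V : X.Opens} (hVU : V ≤ U) :
    Γ(X, V) →+* Γ((thT ξ.toDefSch).X, (thT ξ.toDefSch).im V) :=
  (down ((thT ξ.toDefSch).im U) ((thT ξ.toDefSch).im_mono hVU)).comp (ev r.r r.le_pre)

theorem Ret.fn_apply {U : X.Opens} (r : Ret ξ U) {V : X.Opens} (hVU : V ≤ U) (a : Γ(X, V)) :
    r.fn hVU a = down ((thT ξ.toDefSch).im U) ((thT ξ.toDefSch).im_mono hVU) (ev r.r r.le_pre a) := rfl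

theorem Ret.π_fn {U : X.Opens} (r : Ret ξ U) {V : X.Opens} (hVU : V ≤ U) (a : Γ(X, V)) :
    (thT ξ.toDefSch).π (le_top : V ≤ ⊤) (r.fn hVU a) = a := by
  have e0 : U.ι ⁻¹ᵁ V ≤ (jU (thT ξ.toDefSch) (le_top : U ≤ ⊤)) ⁻¹ᵁ
      (((thT ξ.toDefSch).im U).ι ⁻¹ᵁ ((thT ξ.toDefSch).im V)) := by
    rw [← Scheme.Hom.comp_preimage, jU_ι, Scheme.Hom.comp_preimage]
    have h2 : U.ι ⁻¹ᵁ V ≤ (X.homOfLE (le_top : U ≤ ⊤)) ⁻¹ᵁ ((⊤ : X.Opens).ι ⁻¹ᵁ V) := by
      rw [← Scheme.Hom.comp_preimage, Scheme.homOfLE_ι]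
    exact h2.trans ((X.homOfLE le_top).preimage_mono ((thT ξ.toDefSch).le_preimage_im V))
  rw [Ret.fn_apply]
  refine (π_down (thT ξ.toDefSch) (le_top : U ≤ ⊤) hVU e0 _).trans ?_
  have e1 : U.ι ⁻¹ᵁ V ≤ (jU (thT ξ.toDefSch) (le_top : U ≤ ⊤) ≫ r.r) ⁻¹ᵁ V := by rw [r.j_r]
  have h1 := ev_comp (jU (thT ξ.toDefSch) (le_top : U ≤ ⊤)) r.r r.le_pre e0 e1 a
  refine (congrArg (down U hVU) (h1.trans (ev_congr r.j_r e1 le_rfl a))).trans ?_
  exact down_ev U hVU a _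

theorem Ret.fn_res {U : X.Opens} (r : Ret ξ U) {V V' : X.Opens} (hVU : V ≤ U) (h : V' ≤ V) (a : Γ(X, V)) :
    r.fn (h.trans hVU) (resO X h a) = resO (thT ξ.toDefSch).X ((thT ξ.toDefSch).im_mono h) (r.fn hVU a) := by
  rw [Ret.fn_apply, Ret.fn_apply, resO_down, res_ev, ev_res]

/-- The presheaf of retractions. -/
noncomputable def retP (ξ : PtDefo.DefSch (Λ := k) X x p A) {Y : TopCat.{u}} (e : Y ≃ₜ X) : (Opens Y)ᵒᵖ ⥤ Type u where
  obj U := Ret ξ (e.opensCongr U.unop)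
  map {U V} h := TypeCat.ofHom fun r => r.rs (e.opensCongr.monotone h.unop.le)
  map_id U := ConcreteCategory.hom_ext _ _ fun r => r.rs_self le_rfl
  map_comp {U V W} f g := ConcreteCategory.hom_ext _ _ fun r =>
    (Ret.rs_rs (e.opensCongr.monotone f.unop.le) (e.opensCongr.monotone g.unop.le) r).symm

/-- Retractions exist locally. -/
def LocRet (ξ : PtDefo.DefSch (Λ := k) X x p A) : Prop := ∀ y : X, ∃ U : X.Opens, y ∈ U ∧ Nonempty (Ret ξ U)

theorem LocRet.locNonempty {ξ : PtDefo.DefSch (Λ := k) X x p A} (h : LocRet ξ) {Y : TopCat.{u}} (e : Y ≃ₜ X) :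
    LocNonempty (Opens.grothendieckTopology Y) (retP ξ e) (⊤ : Opens Y) := by
  refine ⟨{ arrows := fun V _ => Nonempty (Ret ξ (e.opensCongr V))
            downward_closed := fun {V W _} ⟨f⟩ g => ⟨f.rs (e.opensCongr.monotone g.le)⟩ }, ?_,
    fun V f (h : Nonempty (Ret ξ (e.opensCongr V))) => h⟩
  intro y _
  obtain ⟨U, hyU, hU⟩ := h (e y)
  refine ⟨e.opensCongr.symm U, homOfLE le_top, ?_, hyU⟩
  change Nonempty (Ret ξ (e.opensCongr (e.opensCongr.symm U)))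
  rw [e.opensCongr.apply_symm_apply]
  exact hU

end gen

end K819
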