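import Groth.Agent.PtDefo.K819.Ret

/-!
# Retractions and isomorphisms with the trivial deformation
-/

set_option autoImplicit false
universe u

open CategoryTheory CategoryTheory.Limits AlgebraicGeometry Opposite TopologicalSpace
open Groth.Agent.Sga67.Sec (Sec res resO res_res resO_resO res_self resO_self res_smul
  eq_of_locally eqO_of_locally)
open Groth.Agent.Fga.Torsor
open K696.Base K696.Thk K679
open ArtFun ArtFun.Art K681.AffDef

namespace K819

section symm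

variable {X₀ S : Scheme.{u}} {p₀ : X₀ ⟶ S} {M : X₀.Modules} {P : PtDat p₀ M} {a b : POb P} {U : X₀.Opens}

theorem PArr.comp_symm (f : PArr a b U) : PArr.comp f f.symm = PArr.one a U :=
  PArr.ext (TArr.ext' fun _ hV hU s => f.1.app_equiv_symm hV hU s)

theorem PArr.symm_comp (f : PArr a b U) : PArr.comp f.symm f = PArr.one b U :=
  PArr.ext (TArr.ext' fun _ hV hU s => (f.1.equiv hV hU).symm_apply_apply s)

theorem PArr.diff_symm (f g : PArr a b U) : PArr.diff f.symm g.symm = - PArr.diff f g := by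
  have h1 := PArr.diff_comp f g f.symm g.symm
  rw [PArr.comp_symm, PArr.comp_symm, PArr.diff_self] at h1
  rw [eq_neg_iff_add_eq_zero, add_comm]
  exact h1.symm

theorem PArr.symm_rs (f : PArr a b U) {U' : X₀.Opens} (h : U' ≤ U) : (f.symm).rs h = (f.rs h).symm := by
  refine PArr.ext (TArr.ext' fun V hV hU s => ?_)
  apply ((f.rs h).1.bijective hV hU).1
  refine Eq.trans ?_ ((f.rs h).1.app_equiv_symm hV hU s).symm
  exact f.1.app_equiv_symm hV (hU.trans h) s

end symm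

variable {k : Type u} [Field k] {X : Scheme.{u}} {x : X ⟶ specPt k} {ι : Type u} {p : ι → (specPt k ⟶ X)}

section triv

variable (hx : Flat x) (hp : ∀ j, p j ≫ x = 𝟙 (specPt k)) (A : Art k k)

/-- The trivial deformation. -/
noncomputable def tau : PtDefo.DefSch (Λ := k) X x p A := PtDefo.DefSch.trivial X x p hx hp A

/-- The projection. -/
noncomputable def tfst : (thT (tau hx hp A).toDefSch).X ⟶ X := pullback.fst x (specOver A)

theorem isPullback_tau : IsPullback (tfst hx hp A) (thf (tau hx hp A).toDefSch) x (specOver A) :=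
  IsPullback.of_hasPullback x (specOver A)

theorem thi_tfst : thi (tau hx hp A).toDefSch ≫ tfst hx hp A = 𝟙 X := by
  have h1 := ArtFun.DefSch.baseChange_i_fst (PtDefo.DefSch.self (Λ := k) X x p hx hp).toDefSch (ofBase A)
  exact h1

theorem sect_tfst (j : ι) :
    ((tau hx hp A).sect j : _ ⟶ (thT (tau hx hp A).toDefSch).X) ≫ tfst hx hp A = specOver A ≫ p j :=
  PtDefo.DefSch.baseChange_sect_fst (PtDefo.DefSch.self (Λ := k) X x p hx hp) (ofBase A) j

theorem le_tfst {V : X.Opens} :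
    (thT (tau hx hp A).toDefSch).im V ≤ tfst hx hp A ⁻¹ᵁ V := by
  apply (thT (tau hx hp A).toDefSch).le_of_le (tfst hx hp A) (𝟙 X) (V := V)
  · exact le_rfl
  · rw [thT_j, Category.assoc, thi_tfst]

/-- Constant functions. -/
noncomputable def cst (V : X.Opens) : Γ(X, V) →+* Γ((thT (tau hx hp A).toDefSch).X, (thT (tau hx hp A).toDefSch).im V) :=
  ev (tfst hx hp A) (le_tfst hx hp A)

theorem π_cst {V : X.Opens} (a : Γ(X, V)) :
    (thT (tau hx hp A).toDefSch).π (le_top : V ≤ ⊤) (cst hx hp A V a) = a := by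
  have h1 : V ≤ thi (tau hx hp A).toDefSch ⁻¹ᵁ (thT (tau hx hp A).toDefSch).im V :=
    fun y hy => (mem_im_thi (tau hx hp A).toDefSch y).2 hy
  rw [← ev_thi (tau hx hp A).toDefSch h1]
  have h2 : V ≤ (thi (tau hx hp A).toDefSch ≫ tfst hx hp A) ⁻¹ᵁ V := by rw [thi_tfst]; exact le_rfl
  refine (ev_comp (thi (tau hx hp A).toDefSch) (tfst hx hp A) (le_tfst hx hp A) h1 h2 a).trans ?_
  refine (ev_congr (thi_tfst hx hp A) h2 le_rfl a).trans ?_
  exact (ev_id le_rfl a).trans (resO_self le_rfl a)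

end triv

section arr

variable (hx : Flat x) (hp : ∀ j, p j ≫ x = 𝟙 (specPt k)) {ξ : PtDefo.DefSch (Λ := k) X x p (dual k k)}
  {U : X.Opens}

/-- The morphism to the trivial deformation. -/
noncomputable def Ret.hom (r : Ret ξ U) : ((thT ξ.toDefSch).im U).toScheme ⟶ (thT (tau hx hp (dual k k)).toDefSch).X :=
  (isPullback_tau hx hp (dual k k)).lift r.r (((thT ξ.toDefSch).im U).ι ≫ thf ξ.toDefSch)
    (by rw [Category.assoc]; exact r.r_x)

theorem Ret.hom_tfst (r : Ret ξ U) : r.hom hx hp ≫ tfst hx hp (dual k k) = r.r :=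
  (isPullback_tau hx hp (dual k k)).lift_fst _ _ _

theorem Ret.hom_thf (r : Ret ξ U) : r.hom hx hp ≫ thf (tau hx hp (dual k k)).toDefSch =
    ((thT ξ.toDefSch).im U).ι ≫ thf ξ.toDefSch := (isPullback_tau hx hp (dual k k)).lift_snd _ _ _

theorem Ret.jU_hom (r : Ret ξ U) : jU (thT ξ.toDefSch) (le_top : U ≤ ⊤) ≫ r.hom hx hp =
    X.homOfLE (le_top : U ≤ ⊤) ≫ (thT (tau hx hp (dual k k)).toDefSch).j := by
  apply (isPullback_tau hx hp (dual k k)).hom_ext
  · rw [Category.assoc, Ret.hom_tfst, r.j_r, thT_j, Category.assoc, Category.assoc, thi_tfst, Category.comp_id,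
      Scheme.homOfLE_ι]
  · have h1 := jU_ι (thT ξ.toDefSch) (le_top : U ≤ ⊤)
    rw [Category.assoc, Ret.hom_thf, reassoc_of% h1, thT_w, Category.assoc, thT_w]

theorem Ret.secU_hom (r : Ret ξ U) (j : ι) (hj : p j z0 ∈ U) :
    secU ξ j hj ≫ r.hom hx hp = ((tau hx hp (dual k k)).sect j : _ ⟶ (thT (tau hx hp (dual k k)).toDefSch).X) := by
  apply (isPullback_tau hx hp (dual k k)).hom_ext
  · rw [Category.assoc, Ret.hom_tfst, r.pt_r]
    exact (sect_tfst hx hp (dual k k) j).symm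
  · have h1 := secU_ι ξ j hj
    rw [Category.assoc, Ret.hom_thf, reassoc_of% h1]
    exact (sect_thf ξ j).trans (sect_thf (tau hx hp (dual k k)) j).symm

/-- The isomorphism with the trivial deformation. -/
noncomputable def Ret.arr' (r : Ret ξ U) : PArr (pOb ξ) (pOb (tau hx hp (dual k k))) U :=
  parrOfHom ξ (tau hx hp (dual k k)) (r.hom hx hp) (r.jU_hom hx hp) (r.hom_thf hx hp) (fun j hj => r.secU_hom hx hp j hj)

theorem Ret.arr'_app (r : Ret ξ U) {V : X.Opens} (hV : Sm (xD x) V) (hVU : V ≤ U) (a : Γ(X, V)) :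
    (r.arr' hx hp).1.app hV hVU (cst hx hp (dual k k) V a) = r.fn hVU a := by
  unfold Ret.arr'
  rw [parrOfHom_app, Ret.fn_apply]
  refine (appOfHom_apply (a := (pOb ξ).toThOb) (b := (pOb (tau hx hp (dual k k))).toThOb) _ _ _ _ _ _).trans ?_
  refine congrArg (down ((thT ξ.toDefSch).im U) ((thT ξ.toDefSch).im_mono hVU)) ?_
  have h1 : ((thT ξ.toDefSch).im U).ι ⁻¹ᵁ ((thT ξ.toDefSch).im V) ≤
      (r.hom hx hp ≫ tfst hx hp (dual k k)) ⁻¹ᵁ V := by rw [Ret.hom_tfst]; exact r.le_pre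
  refine (ev_comp (r.hom hx hp) (tfst hx hp (dual k k)) (le_tfst hx hp (dual k k)) _ h1 a).trans ?_
  exact ev_congr (r.hom_tfst hx hp) h1 _ a

theorem Ret.arr'_rs (r : Ret ξ U) {U' : X.Opens} (h : U' ≤ U) :
    (r.arr' hx hp).rs h = (r.rs h).arr' hx hp := by
  refine PArr.ext (TArr.ext' fun V hV hU s => ?_)
  have h1 : (thT ξ.toDefSch).X.homOfLE ((thT ξ.toDefSch).im_mono h) ≫ r.hom hx hp = (r.rs h).hom hx hp := by
    apply (isPullback_tau hx hp (dual k k)).hom_ext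
    · rw [Category.assoc, Ret.hom_tfst, Ret.hom_tfst]; rfl
    · rw [Category.assoc, Ret.hom_thf, Ret.hom_thf, ← Category.assoc, Scheme.homOfLE_ι]
  have h2 : ((thT ξ.toDefSch).im U').ι ⁻¹ᵁ ((thT ξ.toDefSch).im V) ≤
      ((thT ξ.toDefSch).X.homOfLE ((thT ξ.toDefSch).im_mono h)) ⁻¹ᵁ
        (((thT ξ.toDefSch).im U).ι ⁻¹ᵁ ((thT ξ.toDefSch).im V)) := by
    rw [← Scheme.Hom.comp_preimage, Scheme.homOfLE_ι]
  have h3 := le_ofHom (a := (pOb ξ).toThOb) (b := (pOb (tau hx hp (dual k k))).toThOb) (le_top : U ≤ ⊤) (le_top : U ≤ ⊤)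
    (r.hom hx hp) (r.jU_hom hx hp) (V := V)
  have h4 : ((thT ξ.toDefSch).im U').ι ⁻¹ᵁ ((thT ξ.toDefSch).im V) ≤
      ((thT ξ.toDefSch).X.homOfLE ((thT ξ.toDefSch).im_mono h) ≫ r.hom hx hp) ⁻¹ᵁ
        ((thT (tau hx hp (dual k k)).toDefSch).im V) := h2.trans (Scheme.Hom.preimage_mono _ h3)
  change down ((thT ξ.toDefSch).im U) ((thT ξ.toDefSch).im_mono (hU.trans h)) (ev (r.hom hx hp) h3 s) =
    down ((thT ξ.toDefSch).im U') ((thT ξ.toDefSch).im_mono hU) (ev ((r.rs h).hom hx hp) _ s)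
  refine (down_homOfLE (X₀ := (thT ξ.toDefSch).X) ((thT ξ.toDefSch).im_mono h) ((thT ξ.toDefSch).im_mono hU)
    h2 (ev (r.hom hx hp) h3 s)).symm.trans ?_
  refine congrArg _ ((ev_comp _ (r.hom hx hp) h3 h2 h4 s).trans ?_)
  exact ev_congr h1 _ _ s

end arr

end K819
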