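import Groth.Agent.PtDefo.K819.RetArr
import Groth.Agent.SGA7.K565.DefCat

/-!
# Base change of retractions
-/

set_option autoImplicit false
universe u

open CategoryTheory CategoryTheory.Limits AlgebraicGeometry Opposite TopologicalSpace
open Groth.Agent.Sga67.Sec (Sec res resO res_res resO_resO res_self resO_self res_smul
  eq_of_locally eqO_of_locally)
open Groth.Agent.Fga.Torsor
open K696.Base K696.Thk K679
open ArtFun ArtFun.Art K681.AffDef

namespace K819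

variable {k : Type u} [Field k] {X : Scheme.{u}} {x : X ⟶ specPt k} {ι : Type u} {p : ι → (specPt k ⟶ X)}

/-- `ξ` is the base change of `η` along `g`. -/
structure PBC {B A : Art k k} (η : PtDefo.DefSch (Λ := k) X x p B) (g : B ⟶ A)
    (ξ : PtDefo.DefSch (Λ := k) X x p A) where
  t : (thT ξ.toDefSch).X ⟶ (thT η.toDefSch).X
  isPullback : IsPullback t (thf ξ.toDefSch) (thf η.toDefSch) (specMap g)
  i_t : thi ξ.toDefSch ≫ t = thi η.toDefSch
  sect_t : ∀ j, (ξ.sect j : _ ⟶ (thT ξ.toDefSch).X) ≫ t = specMap g ≫ (η.sect j : _ ⟶ (thT η.toDefSch).X)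

/-- The canonical one. -/
noncomputable def PBC.canonical {B A : Art k k} (η : PtDefo.DefSch (Λ := k) X x p B) (g : B ⟶ A) :
    PBC η g (η.baseChange g) where
  t := pullback.fst _ _
  isPullback := IsPullback.of_hasPullback _ _
  i_t := ArtFun.DefSch.baseChange_i_fst η.toDefSch g
  sect_t j := PtDefo.DefSch.baseChange_sect_fst η g j

namespace PBC

variable {B A : Art k k} {η : PtDefo.DefSch (Λ := k) X x p B} {g : B ⟶ A} {ξ : PtDefo.DefSch (Λ := k) X x p A}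
  (b : PBC η g ξ)

theorem le_t {V : X.Opens} : (thT ξ.toDefSch).im V ≤ b.t ⁻¹ᵁ (thT η.toDefSch).im V := by
  apply (thT ξ.toDefSch).le_of_le b.t (thi η.toDefSch)
  · rw [thT_j, Category.assoc, b.i_t]
  · exact fun y hy => (mem_im_thi η.toDefSch y).2 hy

/-- The map on functions. -/
noncomputable def tm (V : X.Opens) : Γ((thT η.toDefSch).X, (thT η.toDefSch).im V) →+*
    Γ((thT ξ.toDefSch).X, (thT ξ.toDefSch).im V) := ev b.t b.le_t

theorem tm_apply {V : X.Opens} (s : Γ((thT η.toDefSch).X, (thT η.toDefSch).im V)) : b.tm V s = ev b.t b.le_t s := rfl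

theorem π_tm {V : X.Opens} (s : Γ((thT η.toDefSch).X, (thT η.toDefSch).im V)) :
    (thT ξ.toDefSch).π (le_top : V ≤ ⊤) (b.tm V s) = (thT η.toDefSch).π (le_top : V ≤ ⊤) s := by
  have h1 : V ≤ thi ξ.toDefSch ⁻¹ᵁ (thT ξ.toDefSch).im V := fun y hy => (mem_im_thi ξ.toDefSch y).2 hy
  have h2 : V ≤ thi η.toDefSch ⁻¹ᵁ (thT η.toDefSch).im V := fun y hy => (mem_im_thi η.toDefSch y).2 hy
  have h3 : V ≤ (thi ξ.toDefSch ≫ b.t) ⁻¹ᵁ (thT η.toDefSch).im V := by rw [b.i_t]; exact h2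
  rw [← ev_thi ξ.toDefSch h1, ← ev_thi η.toDefSch h2]
  exact (ev_comp (thi ξ.toDefSch) b.t b.le_t h1 h3 s).trans (ev_congr b.i_t h3 h2 s)

theorem tm_stA (V : X.Opens) (a : B) :
    b.tm V (stA (thf η.toDefSch) _ a) = stA (thf ξ.toDefSch) _ (g a) := by
  rw [tm_apply, ev_stA, stA_congr b.isPullback.w]
  exact stA_map (thf ξ.toDefSch) (CommRingCat.ofHom g.toAlgHom.toRingHom) _ a

theorem res_tm {V V' : X.Opens} (h : V' ≤ V) (s : Γ((thT η.toDefSch).X, (thT η.toDefSch).im V)) :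
    resO (thT ξ.toDefSch).X ((thT ξ.toDefSch).im_mono h) (b.tm V s) =
      b.tm V' (resO (thT η.toDefSch).X ((thT η.toDefSch).im_mono h) s) := by
  rw [tm_apply, tm_apply, res_ev, ev_res]

theorem range_tU (U : X.Opens) :
    Set.range (((thT ξ.toDefSch).im U).ι ≫ b.t) ⊆ Set.range ((thT η.toDefSch).im U).ι := by
  rw [Scheme.Opens.range_ι]
  rintro _ ⟨y, rfl⟩
  rw [Scheme.Hom.comp_apply]
  exact b.le_t y.2

/-- The restriction to the open pieces. -/
noncomputable def tU (U : X.Opens) : ((thT ξ.toDefSch).im U).toScheme ⟶ ((thT η.toDefSch).im U).toScheme :=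
  IsOpenImmersion.lift ((thT η.toDefSch).im U).ι (((thT ξ.toDefSch).im U).ι ≫ b.t) (b.range_tU U)

theorem tU_ι (U : X.Opens) : b.tU U ≫ ((thT η.toDefSch).im U).ι = ((thT ξ.toDefSch).im U).ι ≫ b.t :=
  IsOpenImmersion.lift_fac _ _ _

theorem jU_tU (U : X.Opens) : jU (thT ξ.toDefSch) (le_top : U ≤ ⊤) ≫ b.tU U = jU (thT η.toDefSch) (le_top : U ≤ ⊤) := by
  have h1 := jU_ι (thT ξ.toDefSch) (le_top : U ≤ ⊤)
  rw [← cancel_mono ((thT η.toDefSch).im U).ι, Category.assoc, b.tU_ι, reassoc_of% h1, thT_j, Category.assoc, b.i_t,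
    jU_ι, thT_j]

theorem secU_tU {U : X.Opens} (j : ι) (hj : p j z0 ∈ U) : secU ξ j hj ≫ b.tU U = specMap g ≫ secU η j hj := by
  have h1 := secU_ι ξ j hj
  rw [← cancel_mono ((thT η.toDefSch).im U).ι, Category.assoc, b.tU_ι, reassoc_of% h1, Category.assoc, secU_ι]
  exact b.sect_t j

theorem tU_homOfLE {U U' : X.Opens} (h : U' ≤ U) :
    b.tU U' ≫ (thT η.toDefSch).X.homOfLE ((thT η.toDefSch).im_mono h) =
      (thT ξ.toDefSch).X.homOfLE ((thT ξ.toDefSch).im_mono h) ≫ b.tU U := by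
  rw [← cancel_mono ((thT η.toDefSch).im U).ι, Category.assoc, Category.assoc, Scheme.homOfLE_ι, b.tU_ι, b.tU_ι,
    Scheme.homOfLE_ι_assoc]

/-- Base change of retractions. -/
noncomputable def ret {U : X.Opens} (r : Ret η U) : Ret ξ U where
  r := b.tU U ≫ r.r
  j_r := by rw [← Category.assoc, b.jU_tU, r.j_r]
  r_x := by
    have h1 := b.tU_ι U
    rw [Category.assoc, r.r_x, reassoc_of% h1]
    have h2 := b.isPullback.w
    rw [reassoc_of% h2, specOver_comp]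
  pt_r j hj := by rw [← Category.assoc, b.secU_tU, Category.assoc, r.pt_r, ← Category.assoc, specOver_comp]

theorem ret_rs {U U' : X.Opens} (h : U' ≤ U) (r : Ret η U) : (b.ret r).rs h = b.ret (r.rs h) := by
  apply Ret.ext
  change (thT ξ.toDefSch).X.homOfLE _ ≫ b.tU U ≫ r.r = b.tU U' ≫ (thT η.toDefSch).X.homOfLE _ ≫ r.r
  rw [← Category.assoc, ← b.tU_homOfLE h, Category.assoc]

theorem ret_fn {U : X.Opens} (r : Ret η U) {V : X.Opens} (hVU : V ≤ U) (a : Γ(X, V)) :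
    (b.ret r).fn hVU a = b.tm V (r.fn hVU a) := by
  have e1 : ((thT ξ.toDefSch).im U).ι ⁻¹ᵁ (thT ξ.toDefSch).im V ≤
      b.tU U ⁻¹ᵁ (((thT η.toDefSch).im U).ι ⁻¹ᵁ (thT η.toDefSch).im V) := by
    rw [← Scheme.Hom.comp_preimage, b.tU_ι, Scheme.Hom.comp_preimage]
    exact Scheme.Hom.preimage_mono _ b.le_t
  rw [Ret.fn_apply, tm_apply]
  -- the function on the open piece
  have h1 : ev (b.ret r).r (b.ret r).le_pre a = ev (b.tU U) e1 (ev r.r r.le_pre a) :=
    (ev_comp (b.tU U) r.r r.le_pre e1 (b.ret r).le_pre a).symm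
  have h2 := ev_down ((thT η.toDefSch).im U) ((thT η.toDefSch).im_mono hVU) (ev r.r r.le_pre a) le_rfl
  rw [h1, ← h2, ← Ret.fn_apply r hVU]
  have e2 : ((thT ξ.toDefSch).im U).ι ⁻¹ᵁ (thT ξ.toDefSch).im V ≤
      (b.tU U ≫ ((thT η.toDefSch).im U).ι) ⁻¹ᵁ (thT η.toDefSch).im V := e1
  have e3 : ((thT ξ.toDefSch).im U).ι ⁻¹ᵁ (thT ξ.toDefSch).im V ≤
      (((thT ξ.toDefSch).im U).ι ≫ b.t) ⁻¹ᵁ (thT η.toDefSch).im V := by rw [← b.tU_ι]; exact e2
  have h3 := ev_comp (b.tU U) ((thT η.toDefSch).im U).ι le_rfl e1 e2 (r.fn hVU a)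
  have h4 := ev_comp ((thT ξ.toDefSch).im U).ι b.t b.le_t le_rfl e3 (r.fn hVU a)
  rw [h3, ev_congr (b.tU_ι U) e2 e3, ← h4]
  exact down_ev _ _ _ _

/-- Base change of retractions, as a map of presheaves. -/
noncomputable def retMap {Y : TopCat.{u}} (e : Y ≃ₜ X) : retP η e ⟶ retP ξ e where
  app U := TypeCat.ofHom fun r => b.ret (U := e.opensCongr U.unop) r
  naturality U V f := ConcreteCategory.hom_ext _ _ fun r => (b.ret_rs (e.opensCongr.monotone f.unop.le) r).symm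

end PBC

theorem LocRet.bc {B A : Art k k} {η : PtDefo.DefSch (Λ := k) X x p B} {g : B ⟶ A}
    {ξ : PtDefo.DefSch (Λ := k) X x p A} (h : LocRet η) (b : PBC η g ξ) : LocRet ξ := fun y => by
  obtain ⟨U, hU, ⟨r⟩⟩ := h y
  exact ⟨U, hU, ⟨b.ret r⟩⟩

section arr

variable (hx : Flat x) (hp : ∀ j, p j ≫ x = 𝟙 (specPt k)) {ξ : PtDefo.DefSch (Λ := k) X x p (dual k k)}
  {U : X.Opens}

/-- The isomorphism from the trivial deformation. -/
noncomputable def Ret.arr (r : Ret ξ U) : PArr (pOb (tau hx hp (dual k k))) (pOb ξ) U := (r.arr' hx hp).symm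

theorem Ret.arr_rs (r : Ret ξ U) {U' : X.Opens} (h : U' ≤ U) : (r.arr hx hp).rs h = (r.rs h).arr hx hp := by
  unfold Ret.arr
  rw [PArr.symm_rs, Ret.arr'_rs]

/-- The map of presheaves. -/
noncomputable def arrMap (ξ : PtDefo.DefSch (Λ := k) X x p (dual k k)) {Y : TopCat.{u}} (e : Y ≃ₜ X) :
    retP ξ e ⟶ parr e (pOb (tau hx hp (dual k k))) (pOb ξ) where
  app U := TypeCat.ofHom fun r => Ret.arr (U := e.opensCongr U.unop) hx hp r
  naturality U V f := ConcreteCategory.hom_ext _ _ fun r =>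
    (Ret.arr_rs hx hp r (e.opensCongr.monotone f.unop.le)).symm

theorem LocRet.locIso (h : LocRet ξ) : LocIso (pOb (tau hx hp (dual k k))) (pOb ξ) := fun y => by
  obtain ⟨U, hU, ⟨r⟩⟩ := h y
  exact ⟨U, hU, ⟨r.arr hx hp⟩⟩

theorem Ret.diff_arr' (r s : Ret ξ U) {V : X.Opens} (hV : Sm (xD x) V) (hVU : V ≤ U) (a : Γ(X, V)) :
    kap ξ.toDefSch hV.1 (toO V ((PArr.diff (r.arr' hx hp) (s.arr' hx hp)).1.app hV hVU a)) =
      r.fn hVU a - s.fn hVU a := by
  have h1 := TArr.κ_diff (r.arr' hx hp).1 (s.arr' hx hp).1 hV hVU (cst hx hp (dual k k) V a)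
  have h2 : (pOb (tau hx hp (dual k k))).T.π (hVU.trans (r.arr' hx hp).1.le_r) (cst hx hp (dual k k) V a) = a :=
    π_cst hx hp (dual k k) a
  rw [Ret.arr'_app, Ret.arr'_app, h2] at h1
  exact h1

theorem Ret.diff_arr (r s : Ret ξ U) {V : X.Opens} (hV : Sm (xD x) V) (hVU : V ≤ U) (a : Γ(X, V)) :
    kap ξ.toDefSch hV.1 (toO V ((PArr.diff (r.arr hx hp) (s.arr hx hp)).1.app hV hVU a)) =
      s.fn hVU a - r.fn hVU a := by
  have h1 : PArr.diff (r.arr hx hp) (s.arr hx hp) = PArr.diff (s.arr' hx hp) (r.arr' hx hp) := by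
    unfold Ret.arr
    rw [PArr.diff_symm]
    have h2 := PArr.diff_add (r.arr' hx hp) (s.arr' hx hp) (r.arr' hx hp)
    rw [PArr.diff_self] at h2
    exact neg_eq_of_add_eq_zero_right h2
  rw [h1]
  exact Ret.diff_arr' hx hp s r hV hVU a

end arr

end K819
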