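import Groth.Agent.Lift.K696.Base
import Mathlib.AlgebraicGeometry.AffineScheme

/-!
# Morphisms from spectra, elementwise

`sp ν h : Γ(Y, V) →+* R` for `ν : Spec R ⟶ Y` landing in the open `V`.
-/

set_option autoImplicit false
universe u

open CategoryTheory CategoryTheory.Limits AlgebraicGeometry Opposite TopologicalSpace
open Groth.Agent.Sga67.Sec (Sec res resO res_res resO_resO res_self resO_self res_smul
  eq_of_locally eqO_of_locally)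
open K696.Base

namespace K819

variable {Y Y' : Scheme.{u}} {R R' : CommRingCat.{u}}

/-- The map on functions of a morphism from a spectrum. -/
noncomputable def sp (ν : Spec R ⟶ Y) {V : Y.Opens} (h : ⊤ ≤ ν ⁻¹ᵁ V) : Γ(Y, V) →+* R :=
  (Scheme.ΓSpecIso R).hom.hom.comp (ev ν h)

theorem sp_apply (ν : Spec R ⟶ Y) {V : Y.Opens} (h : ⊤ ≤ ν ⁻¹ᵁ V) (s : Γ(Y, V)) :
    sp ν h s = (Scheme.ΓSpecIso R).hom (ev ν h s) := rfl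

theorem sp_congr {ν ν' : Spec R ⟶ Y} (e : ν = ν') {V : Y.Opens} (h : ⊤ ≤ ν ⁻¹ᵁ V) (h' : ⊤ ≤ ν' ⁻¹ᵁ V)
    (s : Γ(Y, V)) : sp ν h s = sp ν' h' s := by
  subst e; rfl

theorem sp_res (ν : Spec R ⟶ Y) {V V' : Y.Opens} (h : ⊤ ≤ ν ⁻¹ᵁ V) (hV : V' ≤ V) (h' : ⊤ ≤ ν ⁻¹ᵁ V')
    (s : Γ(Y, V)) : sp ν h' (resO Y hV s) = sp ν h s := by
  rw [sp_apply, sp_apply, ev_res ν h hV]

theorem ΓSpecIso_ev_map (ρ : R ⟶ R') (h : (⊤ : (Spec R').Opens) ≤ Spec.map ρ ⁻¹ᵁ ⊤) (t : Γ(Spec R, ⊤)) :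
    (Scheme.ΓSpecIso R').hom (ev (Spec.map ρ) h t) = ρ ((Scheme.ΓSpecIso R).hom t) := by
  have h1 : ev (Spec.map ρ) h t = (Spec.map ρ).appTop t := ev_eq_app (Spec.map ρ) t h
  rw [h1]
  exact congr($(Scheme.ΓSpecIso_naturality ρ) t)

theorem sp_map (ν : Spec R ⟶ Y) (ρ : R ⟶ R') {V : Y.Opens} (h : ⊤ ≤ ν ⁻¹ᵁ V)
    (h' : ⊤ ≤ (Spec.map ρ ≫ ν) ⁻¹ᵁ V) (s : Γ(Y, V)) : sp (Spec.map ρ ≫ ν) h' s = ρ (sp ν h s) := by
  have h2 : (⊤ : (Spec R').Opens) ≤ Spec.map ρ ⁻¹ᵁ ⊤ := le_rfl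
  rw [sp_apply, sp_apply, ← ev_comp (Spec.map ρ) ν h h2 h']
  exact ΓSpecIso_ev_map ρ h2 _

theorem sp_comp (ν : Spec R ⟶ Y) (f : Y ⟶ Y') {V : Y'.Opens} {W : Y.Opens} (h : ⊤ ≤ ν ⁻¹ᵁ W) (hf : W ≤ f ⁻¹ᵁ V)
    (h' : ⊤ ≤ (ν ≫ f) ⁻¹ᵁ V) (s : Γ(Y', V)) : sp (ν ≫ f) h' s = sp ν h (ev f hf s) := by
  rw [sp_apply, sp_apply, ev_comp ν f hf h h']

theorem sp_fromSpec {V : Y.Opens} (hV : IsAffineOpen V) (h : ⊤ ≤ hV.fromSpec ⁻¹ᵁ V) (s : Γ(Y, V)) :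
    sp hV.fromSpec h s = s := by
  rw [sp_apply, ev_eq]
  have h1 := hV.fromSpec_app_self
  have h2 : hV.fromSpec.app V s =
      (Spec Γ(Y, V)).presheaf.map (eqToHom hV.fromSpec_preimage_self).op ((Scheme.ΓSpecIso Γ(Y, V)).inv s) :=
    congr($(h1) s)
  have h3 : resO (Spec Γ(Y, V)) h (hV.fromSpec.app V s) = (Scheme.ΓSpecIso Γ(Y, V)).inv s := by
    rw [h2]
    exact (resO_resO (X := Spec Γ(Y, V)) (le_of_eq hV.fromSpec_preimage_self) h _).trans (resO_self le_rfl _)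
  rw [h3, ← ConcreteCategory.comp_apply, Iso.inv_hom_id, ConcreteCategory.id_apply]

/-- A morphism from a spectrum into an affine open. -/
theorem map_sp_fromSpec (ν : Spec R ⟶ Y) {V : Y.Opens} (hV : IsAffineOpen V) (h : ⊤ ≤ ν ⁻¹ᵁ V) :
    Spec.map (CommRingCat.ofHom (sp ν h)) ≫ hV.fromSpec = ν := by
  have hr : Set.range ν ⊆ Set.range hV.fromSpec := by
    rw [hV.range_fromSpec]
    rintro _ ⟨x, rfl⟩
    exact h (Set.mem_univ x)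
  let t : Spec R ⟶ Spec Γ(Y, V) := IsOpenImmersion.lift hV.fromSpec ν hr
  have ht : t ≫ hV.fromSpec = ν := IsOpenImmersion.lift_fac _ _ _
  obtain ⟨ψ, hψ⟩ : ∃ ψ : Γ(Y, V) ⟶ R, Spec.map ψ = t := ⟨Spec.preimage t, Spec.map_preimage t⟩
  have h1 : CommRingCat.ofHom (sp ν h) = ψ := by
    ext s
    have h2 : (⊤ : (Spec Γ(Y, V)).Opens) ≤ hV.fromSpec ⁻¹ᵁ V := by rw [hV.fromSpec_preimage_self]
    have h3 : ν = Spec.map ψ ≫ hV.fromSpec := by rw [hψ, ht]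
    change sp ν h s = ψ s
    rw [sp_congr h3 h (by rw [← h3]; exact h) s, sp_map hV.fromSpec ψ h2, sp_fromSpec]
  rw [h1, hψ, ht]

theorem eq_of_sp {ν ν' : Spec R ⟶ Y} {V : Y.Opens} (hV : IsAffineOpen V) (h : ⊤ ≤ ν ⁻¹ᵁ V) (h' : ⊤ ≤ ν' ⁻¹ᵁ V)
    (hs : ∀ s : Γ(Y, V), sp ν h s = sp ν' h' s) : ν = ν' := by
  have h1 : sp ν h = sp ν' h' := RingHom.ext hs
  rw [← map_sp_fromSpec ν hV h, ← map_sp_fromSpec ν' hV h', h1]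

/-- The canonical map to the spectrum of the functions on an open. -/
theorem down_ev_toSpecΓ (U : Y.Opens) (h : U.ι ⁻¹ᵁ U ≤ U.toSpecΓ ⁻¹ᵁ ⊤) (t : Γ(Spec Γ(Y, U), ⊤)) :
    down U le_rfl (ev U.toSpecΓ h t) = (Scheme.ΓSpecIso Γ(Y, U)).hom t := by
  rw [ev_eq]
  have h1 : U.toSpecΓ.app ⊤ t = U.topIso.inv ((Scheme.ΓSpecIso Γ(Y, U)).hom t) :=
    congr($(Scheme.Opens.toSpecΓ_appTop U) t)
  rw [h1]
  generalize (Scheme.ΓSpecIso Γ(Y, U)).hom t = r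
  have key : U.topIso.inv ≫ U.toScheme.presheaf.map (homOfLE h).op ≫
      Y.presheaf.map (homOfLE (le_image_preimage U (le_refl U))).op = 𝟙 Γ(Y, U) := by
    have e0 : U.ι ''ᵁ ⊤ ≤ U := by simp
    have e1 : U.ι ''ᵁ (U.ι ⁻¹ᵁ U) ≤ U.ι ''ᵁ ⊤ := by simp
    have e2 : U ≤ U.ι ''ᵁ (U.ι ⁻¹ᵁ U) := le_image_preimage U (le_refl U)
    have e3 : Y.presheaf.map (homOfLE e0).op ≫ Y.presheaf.map (homOfLE e1).op ≫ Y.presheaf.map (homOfLE e2).op =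
        𝟙 Γ(Y, U) := by
      rw [← Functor.map_comp, ← Functor.map_comp]
      exact Y.presheaf.map_id _
    exact e3
  exact congr($key r)

end K819
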