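import Groth.Agent.PtDefo.K819.ClsMap
import Groth.Agent.PtDefo.K819.PtBand
import Groth.Agent.S5005

/-!
# First-order deformations of smooth (pointed) schemes and `H¹` of the (twisted) tangent sheaf
-/

set_option autoImplicit false
universe u

open CategoryTheory CategoryTheory.Limits AlgebraicGeometry Opposite TopologicalSpace
open Groth.Agent.Sga67.Sec
open K696.Base K696.Thk K679 OmegaSh
open ArtFun ArtFun.Art

namespace K819

variable {k : Type u} [Field k] {X : Scheme.{u}} [X.Over (Spec (CommRingCat.of k))]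

local notation "xx" => (X ↘ Spec (CommRingCat.of k))

variable {ι : Type u} [Finite ι] {p : ι → (specPt k ⟶ X)}

/-- The class map, for a submodule of the structure sheaf cut out by the marked points. -/
theorem exists_clsMap_of_sub [Smooth (X ↘ Spec (CommRingCat.of k))] [IsSeparated (X ↘ Spec (CommRingCat.of k))]
    (hp : ∀ j, p j ≫ (X ↘ Spec (CommRingCat.of k)) = 𝟙 (specPt k)) (hinj : Function.Injective p)
    [DCoh.HasSheafHom (Omega.sheaf (X ↘ Spec (CommRingCat.of k)))]
    {N : X.Modules} (κ : N ⟶ Coh.structureModule X) [Mono κ]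
    (hκ : ∀ {V : X.Opens} (hV : Sm (xD (X ↘ Spec (CommRingCat.of k))) V) (m : Sec (Coh.structureModule X) V),
      (∃ n, appS κ V n = m) ↔ ∀ (j : ι) (hj : p j z0 ∈ V),
        (ptDat (X ↘ Spec (CommRingCat.of k)) p).ev j hV hj m = (0 : (dual k k : Art k k))) :
    ∃ C : (PtDefo.defFunctor (Λ := k) X (X ↘ Spec (CommRingCat.of k)) p).obj (dual k k) →
        Coh.HH X ((DCoh.sheafHom (Omega.sheaf (X ↘ Spec (CommRingCat.of k)))).obj N) 1,
      Function.Bijective C ∧
      (∀ z : (PtDefo.defFunctor (Λ := k) X (X ↘ Spec (CommRingCat.of k)) p).obj (dual2 k k),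
        C ((PtDefo.defFunctor (Λ := k) X (X ↘ Spec (CommRingCat.of k)) p).map plus z) =
          C ((PtDefo.defFunctor (Λ := k) X (X ↘ Spec (CommRingCat.of k)) p).map pr₁ z) +
            C ((PtDefo.defFunctor (Λ := k) X (X ↘ Spec (CommRingCat.of k)) p).map pr₂ z)) ∧
      ∀ (c : k) (z : (PtDefo.defFunctor (Λ := k) X (X ↘ Spec (CommRingCat.of k)) p).obj (dual k k)),
        C ((PtDefo.defFunctor (Λ := k) X (X ↘ Spec (CommRingCat.of k)) p).map (scale c) z) = c • C z := by
  have hd : IsUniversal (dOmega (X ↘ Spec (CommRingCat.of k))) := Groth.Agent.S5005.result _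
  have hx : Flat (X ↘ Spec (CommRingCat.of k)) := inferInstance
  exact exists_clsMap (H := Coh.HH X ((DCoh.sheafHom (Omega.sheaf (X ↘ Spec (CommRingCat.of k)))).obj N) 1) hx hp
    (IdBand.band (s := specRes (dual k k)) hd (Coh.structureModule X))
    (ptBand (p := p) hd κ hκ) (allLoc hinj) (AddEquiv.refl _)
    (fun c => Coh.smulAb ((DCoh.sheafHom (Omega.sheaf (X ↘ Spec (CommRingCat.of k)))).obj N)
      (Coh.toGlobal (X ↘ Spec (CommRingCat.of k)) c)) (isScal_smulAb hd κ hκ) (fun c h => rfl)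

/-- The case with marked points. -/
theorem tangent_pt [Smooth (X ↘ Spec (CommRingCat.of k))] [IsSeparated (X ↘ Spec (CommRingCat.of k))]
    (hp : ∀ j, p j ≫ (X ↘ Spec (CommRingCat.of k)) = 𝟙 (specPt k)) (hinj : Function.Injective p)
    [DCoh.HasSheafHom (Omega.sheaf (X ↘ Spec (CommRingCat.of k)))]
    [TangentStr (PtDefo.defFunctor (Λ := k) X (X ↘ Spec (CommRingCat.of k)) p)] :
    Nonempty (TangentSpace (PtDefo.defFunctor (Λ := k) X (X ↘ Spec (CommRingCat.of k)) p) ≃ₗ[k]
      Coh.HH X (TanTw.tanTw (X ↘ Spec (CommRingCat.of k)) (PtDefo.ptIdeal p)) 1) := by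
  have hqc : ∀ j, QuasiCompact (p j) := fun j => by
    have h1 : IsClosedImmersion (p j ≫ (X ↘ Spec (CommRingCat.of k))) := by rw [hp]; infer_instance
    have h2 : IsClosedImmersion (p j) := IsClosedImmersion.of_comp (p j) (X ↘ Spec (CommRingCat.of k))
    infer_instance
  have hm : Mono (ClSub.idealModι (PtDefo.ptIdeal p)) := by
    exact equalizer.ι_mono
  have hx : Flat (X ↘ Spec (CommRingCat.of k)) := inferInstance
  obtain ⟨C, h1, h2, h3⟩ := exists_clsMap_of_sub hp hinj (ClSub.idealModι (PtDefo.ptIdeal p))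
    (fun hV m => exists_ideal_iff hqc hV m)
  exact linearEquiv_of_bij (𝟙 _) (fun A => Function.bijective_id) C h1 h2 h3 (exists_dual2 hx)

/-- Forgetting an empty family of sections is bijective. -/
theorem forget_bijective {x : X ⟶ specPt k} (p : PEmpty.{u + 1} → (specPt k ⟶ X)) (A : Art k k) :
    Function.Bijective ((PtDefo.forgetPts (Λ := k) X x p).app A) := by
  constructor
  · intro z z' h
    obtain ⟨ξ, rfl⟩ := exists_rep z
    obtain ⟨ξ', rfl⟩ := exists_rep z'
    obtain ⟨e⟩ := Quotient.exact h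
    exact cl_eq_iff.2 ⟨⟨e, fun j => j.elim⟩⟩
  · intro z
    obtain ⟨ξ, rfl⟩ := Quotient.exists_rep z
    exact ⟨PtDefo.DefSch.cl { ξ with sect := fun j => j.elim, sect_f := fun j => j.elim, pt_sect := fun j => j.elim }, rfl⟩

/-- The case without marked points. -/
theorem tangent_self [Smooth (X ↘ Spec (CommRingCat.of k))] [IsSeparated (X ↘ Spec (CommRingCat.of k))]
    [DCoh.HasSheafHom (Omega.sheaf (X ↘ Spec (CommRingCat.of k)))]
    [TangentStr (ArtFun.defFunctor (Λ := k) X (X ↘ Spec (CommRingCat.of k)))] :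
    Nonempty (TangentSpace (ArtFun.defFunctor (Λ := k) X (X ↘ Spec (CommRingCat.of k))) ≃ₗ[k]
      Coh.HH X ((DCoh.sheafHom (Omega.sheaf (X ↘ Spec (CommRingCat.of k)))).obj (Coh.structureModule X)) 1) := by
  let p : PEmpty.{u + 1} → (specPt k ⟶ X) := fun j => j.elim
  have hx : Flat (X ↘ Spec (CommRingCat.of k)) := inferInstance
  obtain ⟨C, h1, h2, h3⟩ := exists_clsMap_of_sub (X := X) (p := p) (fun j => j.elim) (fun j => j.elim)
    (𝟙 (Coh.structureModule X)) (fun hV m => ⟨fun _ j => j.elim, fun _ => ⟨m, rfl⟩⟩)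
  exact linearEquiv_of_bij (PtDefo.forgetPts (Λ := k) X (X ↘ Spec (CommRingCat.of k)) p) (fun A => forget_bijective p A)
    C h1 h2 h3 (exists_dual2 hx)

end K819
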