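import Groth.Prelude.Def_PtDefo
import Groth.Agent.Deform.K681.AlgDef
import Groth.Agent.Deform.K679.ThHom
import Groth.Agent.PtDefo.K819.SpKit

/-!
# Deformations as thickenings: the rings of functions over affine opens

`thT ξ` : the thickening of `X` underlying a deformation; `stA f W` : the structure map on functions;
`ker_π` : the kernel of the reduction is generated by the maximal ideal; `flat_stA`.
-/

set_option autoImplicit false
universe u

open CategoryTheory CategoryTheory.Limits AlgebraicGeometry Opposite TopologicalSpace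
open Groth.Agent.Sga67.Sec (Sec res resO res_res resO_resO res_self resO_self res_smul
  eq_of_locally eqO_of_locally)
open K696.Base K696.Thk K679
open ArtFun ArtFun.Art K681.AffDef

namespace K819

section stA

theorem le_pre {Y Z : Scheme.{u}} (f : Y ⟶ Z) (W : Y.Opens) : W ≤ f ⁻¹ᵁ (⊤ : Z.Opens) := fun _ _ => trivial

variable {R : CommRingCat.{u}} {Y Y' : Scheme.{u}}

/-- The structure map on functions. -/
noncomputable def stA (f : Y ⟶ Spec R) (W : Y.Opens) : R →+* Γ(Y, W) :=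
  (ev f (le_pre f W)).comp (Scheme.ΓSpecIso R).inv.hom

theorem stA_apply (f : Y ⟶ Spec R) (W : Y.Opens) (a : R) :
    stA f W a = ev f (le_pre f W) ((Scheme.ΓSpecIso R).inv a) := rfl

theorem res_stA (f : Y ⟶ Spec R) {W W' : Y.Opens} (h : W' ≤ W) (a : R) : resO Y h (stA f W a) = stA f W' a := by
  rw [stA_apply, res_ev]; rfl

theorem ev_stA (g : Y' ⟶ Y) (f : Y ⟶ Spec R) {W : Y.Opens} {W' : Y'.Opens} (h : W' ≤ g ⁻¹ᵁ W) (a : R) :
    ev g h (stA f W a) = stA (g ≫ f) W' a := by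
  rw [stA_apply, ev_comp g f _ h (le_pre _ _)]; rfl

theorem stA_congr {f f' : Y ⟶ Spec R} (e : f = f') (W : Y.Opens) (a : R) : stA f W a = stA f' W a := by
  subst e; rfl

theorem stA_id (a : R) : stA (𝟙 (Spec R)) ⊤ a = (Scheme.ΓSpecIso R).inv a := by
  have h1 : stA (𝟙 (Spec R)) ⊤ a = resO (Spec R) (le_refl (⊤ : (Spec R).Opens)) ((Scheme.ΓSpecIso R).inv a) :=
    ev_id (V := (⊤ : (Spec R).Opens)) (W := (⊤ : (Spec R).Opens)) (le_pre _ _) _
  rw [h1, resO_self]

theorem stA_map {R' : CommRingCat.{u}} (f : Y ⟶ Spec R') (ρ : R ⟶ R') (W : Y.Opens) (a : R) :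
    stA (f ≫ Spec.map ρ) W a = stA f W (ρ a) := by
  rw [stA_apply, stA_apply]
  have h1 : (⊤ : (Spec R').Opens) ≤ Spec.map ρ ⁻¹ᵁ (⊤ : (Spec R).Opens) := le_pre _ _
  rw [← ev_comp f (Spec.map ρ) h1 (le_pre f W) (le_pre _ _)]
  congr 1
  have h2 : ev (Spec.map ρ) h1 ((Scheme.ΓSpecIso R).inv a) = (Spec.map ρ).appTop ((Scheme.ΓSpecIso R).inv a) :=
    ev_eq_app (V := (⊤ : (Spec R).Opens)) (Spec.map ρ) _ h1
  rw [h2]
  exact (congr($(Scheme.ΓSpecIso_inv_naturality ρ) a)).symm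

theorem map_stA {V : Y.Opens} (hV : IsAffineOpen V) (f : Y ⟶ Spec R) :
    Spec.map (CommRingCat.ofHom (stA f V)) = hV.fromSpec ≫ f := by
  obtain ⟨φ, hφ⟩ : ∃ φ : R ⟶ Γ(Y, V), Spec.map φ = hV.fromSpec ≫ f := ⟨Spec.preimage _, Spec.map_preimage _⟩
  rw [← hφ]
  congr 1
  ext a
  change stA f V a = φ a
  have h1 : (⊤ : (Spec Γ(Y, V)).Opens) ≤ hV.fromSpec ⁻¹ᵁ V := by rw [hV.fromSpec_preimage_self]
  rw [← sp_fromSpec hV h1 (stA f V a), sp_apply, ev_stA hV.fromSpec f h1, stA_congr hφ.symm]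
  have h2 : stA (Spec.map φ) ⊤ a = (Scheme.ΓSpecIso Γ(Y, V)).inv (φ a) := by
    have h3 := stA_map (𝟙 (Spec Γ(Y, V))) φ ⊤ a
    rw [Category.id_comp] at h3
    rw [h3, stA_id]
  rw [h2, ← ConcreteCategory.comp_apply, Iso.inv_hom_id, ConcreteCategory.id_apply]

end stA

section gen

instance isIso_top_ι (X : Scheme.{u}) : IsIso (⊤ : X.Opens).ι := by
  rw [← X.topIso_hom]; infer_instance

variable {k : Type u} [Field k] {X : Scheme.{u}} {x : X ⟶ specPt k} {A : Art k k}
  (ξ : ArtFun.DefSch (Λ := k) X x A)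

/-- The thickening underlying a deformation. -/
noncomputable def thT : Th (⊤ : X.Opens) where
  X := ξ.total
  j := (⊤ : X.Opens).ι ≫ ξ.i
  cl := inferInstance
  su := inferInstance

/-- The structure morphism. -/
noncomputable def thf : (thT ξ).X ⟶ spec A := ξ.f

/-- The inclusion. -/
noncomputable def thi : X ⟶ (thT ξ).X := ξ.i

theorem thT_j : (thT ξ).j = (⊤ : X.Opens).ι ≫ thi ξ := rfl

theorem thi_thf : thi ξ ≫ thf ξ = x ≫ specRes A := ξ.i_f

theorem isPullback_thi : IsPullback (thi ξ) x (thf ξ) (specRes A) := ξ.isPullback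

instance : Flat (thf ξ) := ξ.flat

theorem isPullback_thT : IsPullback (thT ξ).j ((⊤ : X.Opens).ι ≫ x) (thf ξ) (specRes A) := by
  have h1 : IsPullback (⊤ : X.Opens).ι ((⊤ : X.Opens).ι ≫ x) x (𝟙 _) := IsPullback.of_horiz_isIso ⟨by simp⟩
  have h2 := h1.paste_horiz (isPullback_thi ξ)
  rwa [Category.id_comp] at h2

theorem thT_w : (thT ξ).j ≫ thf ξ = (⊤ : X.Opens).ι ≫ x ≫ specRes A := by
  rw [thT_j, Category.assoc, thi_thf]

theorem π_stA (V : X.Opens) (a : A) :
    (thT ξ).π (le_top : V ≤ ⊤) (stA (thf ξ) _ a) = stA x V (A.res a) := by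
  have h1 := (thT ξ).π_ev (V := (⊤ : (spec A).Opens)) (thf ξ) (x ≫ specRes A) (thT_w ξ) (le_top : V ≤ ⊤)
    (le_pre _ _) (le_pre _ _) ((Scheme.ΓSpecIso (CommRingCat.of A)).inv a)
  refine h1.trans ?_
  exact stA_map x (CommRingCat.ofHom A.res.toRingHom) V a

theorem isPushout_aff {V : X.Opens} (hV : IsAffineOpen V) :
    IsPushout (CommRingCat.ofHom A.res.toRingHom) (CommRingCat.ofHom (stA (thf ξ) ((thT ξ).im V)))
      (CommRingCat.ofHom (stA x V)) (CommRingCat.ofHom ((thT ξ).π (le_top : V ≤ ⊤))) := by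
  have hV' : IsAffineOpen ((thT ξ).im V) := isAffineOpen_im (thT ξ) hV le_top
  have h1 := (isPullback_incS (thT ξ) hV le_top).paste_vert (isPullback_thT ξ)
  have h2 : IsPullback (Spec.map (CommRingCat.ofHom ((thT ξ).π (le_top : V ≤ ⊤))))
      (Spec.map (CommRingCat.ofHom (stA x V))) (Spec.map (CommRingCat.ofHom (stA (thf ξ) ((thT ξ).im V))))
      (specRes A) := by
    refine h1.of_iso hV.isoSpec (Iso.refl _) (Iso.refl _) (Iso.refl _) ?_ ?_ ?_ ?_
    · rw [Iso.refl_hom, Category.comp_id]; rfl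
    · rw [Iso.refl_hom, Category.comp_id, map_stA hV, ← Category.assoc (X.homOfLE _), Scheme.homOfLE_ι]
      have h3 := hV.toSpecΓ_fromSpec
      rw [IsAffineOpen.isoSpec_hom, ← Category.assoc, h3]
    · rw [Iso.refl_hom, Category.comp_id, Iso.refl_hom, Category.id_comp, map_stA hV']
    · simp
  have h3 : IsPullback (CommRingCat.ofHom ((thT ξ).π (le_top : V ≤ ⊤))).op (CommRingCat.ofHom (stA x V)).op
      (CommRingCat.ofHom (stA (thf ξ) ((thT ξ).im V))).op (CommRingCat.ofHom A.res.toRingHom).op :=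
    IsPullback.of_map Scheme.Spec (by
      rw [← op_comp, ← op_comp]
      congr 1
      apply Spec.map_injective
      rw [Spec.map_comp, Spec.map_comp]
      exact h2.w) h2
  exact h3.unop

/-- The kernel of the reduction. -/
theorem ker_π {V : X.Opens} (hV : IsAffineOpen V) :
    RingHom.ker ((thT ξ).π (le_top : V ≤ ⊤)) =
      (IsLocalRing.maximalIdeal A).map (stA (thf ξ) ((thT ξ).im V)) := by
  have h1 := (surjective_and_ker_of_isPushout A.res.toRingHom (stA (thf ξ) ((thT ξ).im V)) (stA x V)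
    ((thT ξ).π (le_top : V ≤ ⊤)) A.res_surjective (isPushout_aff ξ hV)).2
  rw [h1, K681.ker_res]

theorem flat_stA {V : X.Opens} (hV : IsAffineOpen V) : (stA (thf ξ) ((thT ξ).im V)).Flat := by
  have hV' : IsAffineOpen ((thT ξ).im V) := isAffineOpen_im (thT ξ) hV le_top
  have h1 : Flat (Spec.map (CommRingCat.ofHom (stA (thf ξ) ((thT ξ).im V)))) := by
    rw [map_stA hV']
    infer_instance
  rw [Flat.SpecMap_iff] at h1
  exact h1

end gen

end K819
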