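import Groth.Agent.PtDefo.K819.GrbCls
import Groth.Agent.PtDefo.K819.PArr
import Groth.Agent.PtDefo.K819.SpKit
import Groth.Agent.Deform.K679.ThHom

/-!
# Twisting a thickening by a torsor

`torRig B₀ B a D hT`: the rigidification of the gerbe of forms of `a` attached to a torsor `(T, D)`;
`cls_twist`: if `b` is a thickening with a map from the glued scheme `(thSys R).glued`, then the class of `b` relative to `a`
is the class of `(T, D)`.
-/

set_option autoImplicit false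
universe u

open CategoryTheory CategoryTheory.Limits AlgebraicGeometry Opposite TopologicalSpace
open Groth.Agent.Sga67.Sec (Sec res resO res_res resO_resO res_self resO_self res_smul
  eq_of_locally eqO_of_locally)
open Groth.Agent.Fga.Torsor
open K696.Base K696.Thk K679

namespace K819

variable {X₀ S : Scheme.{u}} {p₀ : X₀ ⟶ S} {M : X₀.Modules}

namespace TArr'

variable {W₁ W₂ : X₀.Opens} {a : ThOb p₀ M W₁} {b : ThOb p₀ M W₂} {U : X₀.Opens}

theorem eq_add_of_diff (f g : TArr a b U) (D : SDer p₀ M U) (h : TArr.diff f g = D) : f = g.add D := by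
  apply TArr.eq_of_diff
  have h1 := TArr.diff_add f g (g.add D)
  have h2 := TArr.diff_add (g.add D) g (g.add D)
  have h3 : TArr.diff (g.add D) (g.add D) = 0 := by
    have := TArr.diff_add (g.add D) (g.add D) (g.add D)
    simpa using this
  rw [TArr.diff_add', h3] at h2
  rw [← h1, h, h2]

theorem diff_self (f : TArr a b U) : TArr.diff f f = 0 := by
  have := TArr.diff_add f f f
  simpa using this

theorem add_zero' (f : TArr a b U) : f.add 0 = f := (eq_add_of_diff f f 0 (diff_self f)).symm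

theorem one_add_comp (h : U ≤ W₁) (D D' : SDer p₀ M U) :
    ((TArr.one a h).add D).comp ((TArr.one a h).add D') = (TArr.one a h).add (D + D') := by
  apply eq_add_of_diff
  have h1 := TArr.diff_comp ((TArr.one a h).add D) (TArr.one a h) ((TArr.one a h).add D') (TArr.one a h)
  rw [TArr.diff_add', TArr.diff_add'] at h1
  rw [← h1]
  rfl

/-- Assemble an isomorphism from isomorphisms over the small affine opens. -/
noncomputable def ofFamily (h₁ : U ≤ W₁) (h₂ : U ≤ W₂) (t : ∀ V : X₀.Opens, Sm p₀ V → V ≤ U → TArr a b V)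
    (ht : ∀ (V V' : X₀.Opens) (hV : Sm p₀ V) (hV' : Sm p₀ V') (hU : V ≤ U) (h' : V' ≤ V),
      (t V hV hU).rs h' = t V' hV' (h'.trans hU)) : TArr a b U where
  le_l := h₁
  le_r := h₂
  app {V} hV hU := (t V hV hU).app hV le_rfl
  res_app {V V'} hV hV' hU h' s := by
    rw [← ht V V' hV hV' hU h', TArr.rs_app]
    exact (t V hV hU).res_app hV hV' le_rfl h' s
  π_app {V} hV hU s := (t V hV hU).π_app hV le_rfl s
  κ_app {V} hV hU m := (t V hV hU).κ_app hV le_rfl m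
  st_app {V} hV hU Z hZ c := (t V hV hU).st_app hV le_rfl hZ c

end TArr'

variable {X : TopCat.{u}} {e : X ≃ₜ X₀} {G₀ G : CohTop.Ab X} (B₀ : Band p₀ M e G₀) {P : PtDat p₀ M}
  (B : PBand P e G) (a : POb P) {T : (Opens X)ᵒᵖ ⥤ Type u} (D : Diff T G.obj)
  (hT : LocNonempty (Opens.grothendieckTopology X) T (⊤ : Opens X))

/-- The canonical automorphism attached to a pair of sections of the torsor. -/
noncomputable def torE {U : Opens X} (r s : T.obj (op U)) : TArr a.toThOb a.toThOb (e.opensCongr U) :=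
  (TArr.one a.toThOb le_top).add (B.β U (D.d r s)).1

/-- The rigidification attached to a torsor. -/
noncomputable def torRig : (grb B₀ (fun _ : PUnit.{u + 1} => (⊤ : X₀.Opens)) (fun _ => a.toThOb)
    (fun _ _ _ _ _ => ⟨⊤, trivial, ⟨TArr.one a.toThOb le_rfl⟩⟩)).Rig where
  Rg _ U := T.obj (op U)
  le _ := (le_symm_iff e _ _).2 le_top
  res h r := T.map (homOfLE h).op r
  res_self {_ U} h r := by
    have h1 : (homOfLE h).op = 𝟙 (op U) := rfl
    rw [h1, T.map_id]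
    rfl
  res_res {_ U V W} h h' r := by
    rw [← ConcreteCategory.comp_apply, ← T.map_comp]
    rfl
  e r s := torE B a D r s
  e_self {_ U} r := by
    change torE B a D r r = TArr.one a.toThOb _
    unfold torE
    rw [D.d_self, map_zero]
    exact TArr'.add_zero' _
  res_e {_ _ U V} h r s := by
    change (torE B a D r s).rs (e.opensCongr.monotone h) = torE B a D _ _
    unfold torE
    apply TArr'.eq_add_of_diff
    have h1 := TArr.rs_diff ((TArr.one a.toThOb (le_top : e.opensCongr U ≤ ⊤)).add (B.β U (D.d r s)).1)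
      (TArr.one a.toThOb (le_top : e.opensCongr U ≤ ⊤)) (e.opensCongr.monotone h)
    rw [TArr.diff_add'] at h1
    have h2 := B.nat h (D.d r s)
    have h3 := D.map_d (homOfLE h).op r s
    have h4 : K288.Sec.rs G h (D.d r s) = D.d (T.map (homOfLE h).op r) (T.map (homOfLE h).op s) := h3
    rw [h4] at h2
    rw [h2]
    exact h1.symm
  comp_e {_ _ _ U} r s t := by
    change (torE B a D r s).comp (torE B a D s t) = torE B a D r t
    unfold torE
    rw [TArr'.one_add_comp, ← AddSubgroup.coe_add, ← map_add, D.d_add]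
  cov x := by
    obtain ⟨R, hR, hne⟩ := hT
    obtain ⟨U, f, hf, hx⟩ := hR x trivial
    exact ⟨PUnit.unit, U, hx, hne U f hf⟩

section gl

variable {B₀} {a : ThOb p₀ M (⊤ : X₀.Opens)}
  {hloc : ∀ (_ _ : PUnit.{u + 1}) (x : X₀), x ∈ (⊤ : X₀.Opens) → x ∈ (⊤ : X₀.Opens) → ∃ U : X₀.Opens, x ∈ U ∧
    Nonempty (TArr a a U)}
  (R : (grb B₀ (fun _ : PUnit.{u + 1} => (⊤ : X₀.Opens)) (fun _ => a) hloc).Rig)

/-- The glued scheme. -/
noncomputable def glS : Scheme.{u} := (thSys R).glued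

/-- The pieces. -/
noncomputable def ιS (V : JS R) : Spec Γ(a.T.X, a.T.im V.1) ⟶ glS R := (thSys R).ι V

theorem ThSys.isOpenImmersion_ι {Z : Scheme.{u}} (S : ThSys Z) (V : S.J) : IsOpenImmersion (S.ι V) := inferInstance

instance (V : JS R) : IsOpenImmersion (ιS R V) := ThSys.isOpenImmersion_ι (thSys R) V

/-- The inclusion of `X₀`. -/
noncomputable def iS : X₀ ⟶ glS R := (thSys R).i

instance : IsClosedImmersion (iS R) := inferInstanceAs (IsClosedImmersion (thSys R).i)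

instance : Surjective (iS R) := inferInstanceAs (Surjective (thSys R).i)

/-- The structure morphism. -/
noncomputable def strS : glS R ⟶ S := str R

/-- The transition ring map. -/
noncomputable def rhoS {V V' : JS R} (h : V'.1 ≤ V.1) : Γ(a.T.X, a.T.im V.1) →+* Γ(a.T.X, a.T.im V'.1) :=
  rho R h

theorem rhoS_apply {V V' : JS R} (h : V'.1 ≤ V.1) (s : Γ(a.T.X, a.T.im V.1)) :
    rhoS R h s = (eS R (rg R V') (resS R h (rg R V))).app V'.2.1 le_rfl (resO a.T.X (a.T.im_mono h) s) := rfl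

theorem tr_ιS {V V' : JS R} (h : V'.1 ≤ V.1) :
    Spec.map (CommRingCat.ofHom (rhoS R h)) ≫ ιS R V = ιS R V' := (thSys R).tr_ι h

theorem ι_iS (V : JS R) : V.1.ι ≫ iS R = incS a.T (le_top : V.1 ≤ ⊤) ≫ ιS R V := (thSys R).ι_i V

theorem ιS_strS (V : JS R) :
    ιS R V ≫ strS R = (isAffineOpen_im a.T V.2.1.1 (le_top : V.1 ≤ ⊤)).fromSpec ≫ a.st := ι_str R V

theorem exists_ιS (x : glS R) : ∃ (V : JS R) (y : V.1), ιS R V (incS a.T (le_top : V.1 ≤ ⊤) y) = x := by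
  obtain ⟨V, y, hy⟩ := (thSys R).exists_ι x
  obtain ⟨v, rfl⟩ := ((thSys R).su V).surj y
  exact ⟨V, v, hy⟩

theorem surjective_incS' (V : JS R) : Function.Surjective (incS a.T (le_top : V.1 ≤ ⊤)) :=
  (surjective_incS a.T V.2.1.1 (le_top : V.1 ≤ ⊤)).surj

/-- The local inclusion of the glued scheme. -/
noncomputable def gV {Y : Scheme.{u}} (ψ : glS R ⟶ Y) (V : JS R) : (a.T.im V.1).toScheme ⟶ Y :=
  (a.T.im V.1).toSpecΓ ≫ ιS R V ≫ ψ

theorem jU_gV {Y : Scheme.{u}} (ψ : glS R ⟶ Y) (V : JS R) :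
    jU a.T (le_top : V.1 ≤ ⊤) ≫ gV R ψ V = V.1.ι ≫ iS R ≫ ψ := by
  have h1 : jU a.T (le_top : V.1 ≤ ⊤) ≫ (a.T.im V.1).toSpecΓ = incS a.T (le_top : V.1 ≤ ⊤) := by
    have hV := isAffineOpen_im a.T V.2.1.1 le_top
    have h2 := incS_fromSpec a.T V.2.1.1 (le_top : V.1 ≤ ⊤)
    rw [← cancel_mono hV.fromSpec, h2, Category.assoc, hV.toSpecΓ_fromSpec, jU_ι]
  unfold gV
  rw [reassoc_of% h1, reassoc_of% (ι_iS R V)]

variable {b : ThOb p₀ M (⊤ : X₀.Opens)} (ψ : glS R ⟶ b.T.X)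
  (hψj : (⊤ : X₀.Opens).ι ≫ iS R ≫ ψ = b.T.j)

include hψj in
theorem ι_iS_ψ (V : X₀.Opens) : V.ι ≫ iS R ≫ ψ = X₀.homOfLE (le_top : V ≤ ⊤) ≫ b.T.j := by
  rw [← hψj, ← Category.assoc (X₀.homOfLE _), Scheme.homOfLE_ι]

include hψj in
theorem jU_gV_T (V : JS R) :
    jU a.T (le_top : V.1 ≤ ⊤) ≫ gV R ψ V = X₀.homOfLE (le_top : V.1 ≤ ⊤) ≫ b.T.j := by
  rw [jU_gV, ι_iS_ψ R ψ hψj]

include hψj in
theorem le_nu (V : JS R) : (⊤ : (Spec Γ(a.T.X, a.T.im V.1)).Opens) ≤ (ιS R V ≫ ψ) ⁻¹ᵁ (b.T.im V.1) := by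
  intro y _
  obtain ⟨v, rfl⟩ := surjective_incS' R V y
  change (ιS R V ≫ ψ) (incS a.T (le_top : V.1 ≤ ⊤) v) ∈ b.T.im V.1
  rw [← Scheme.Hom.comp_apply, ← Category.assoc, ← ι_iS R V, Category.assoc, ι_iS_ψ R ψ hψj,
    Scheme.Hom.comp_apply]
  refine (mem_thIm b.T _).2 ?_
  exact (congrArg (fun t => t ∈ V.1) (Scheme.homOfLE_apply (le_top : V.1 ≤ ⊤) v)).mpr v.2

/-- The local comparison map on functions. -/
noncomputable def muV (V : JS R) : Γ(b.T.X, b.T.im V.1) →+* Γ(a.T.X, a.T.im V.1) :=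
  sp (ιS R V ≫ ψ) (le_nu R ψ hψj V)

theorem muV_eq (V : JS R) (s : Γ(b.T.X, b.T.im V.1)) :
    muV R ψ hψj V s = appOfHom (le_top : V.1 ≤ ⊤) (le_top : V.1 ≤ ⊤) (gV R ψ V)
      (jU_gV_T R ψ hψj V) (le_refl V.1) s := by
  have h2 : (a.T.im V.1).ι ⁻¹ᵁ (a.T.im V.1) ≤ (a.T.im V.1).toSpecΓ ⁻¹ᵁ ⊤ := le_top
  have h3 := ev_comp (a.T.im V.1).toSpecΓ (ιS R V ≫ ψ) (le_nu R ψ hψj V) h2
    (le_ofHom (le_top : V.1 ≤ ⊤) (le_top : V.1 ≤ ⊤) (gV R ψ V) (jU_gV_T R ψ hψj V)) s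
  rw [appOfHom_apply]
  refine Eq.trans ?_ (congrArg (down (a.T.im V.1) (a.T.im_mono (le_refl V.1))) h3)
  exact (down_ev_toSpecΓ (a.T.im V.1) h2 _).symm

theorem muV_res {V V' : JS R} (h : V'.1 ≤ V.1) (s : Γ(b.T.X, b.T.im V.1)) :
    muV R ψ hψj V' (resO b.T.X (b.T.im_mono h) s) = rhoS R h (muV R ψ hψj V s) := by
  have h2 : ιS R V' ≫ ψ = Spec.map (CommRingCat.ofHom (rhoS R h)) ≫ ιS R V ≫ ψ := by
    rw [← tr_ιS R h, Category.assoc]
  unfold muV
  have h3 : (⊤ : (Spec Γ(a.T.X, a.T.im V'.1)).Opens) ≤ (ιS R V' ≫ ψ) ⁻¹ᵁ (b.T.im V.1) :=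
    (le_nu R ψ hψj V').trans (Scheme.Hom.preimage_mono _ (b.T.im_mono h))
  rw [sp_res _ h3 (b.T.im_mono h) (le_nu R ψ hψj V'),
    sp_congr h2 h3 (by rw [← h2]; exact h3)]
  exact sp_map (ιS R V ≫ ψ) (CommRingCat.ofHom (rhoS R h)) (le_nu R ψ hψj V) _ s

theorem π_muV (V : JS R) (s : Γ(b.T.X, b.T.im V.1)) :
    a.T.π (le_top : V.1 ≤ ⊤) (muV R ψ hψj V s) = b.T.π (le_top : V.1 ≤ ⊤) s := by
  rw [muV_eq]
  exact π_appOfHom (le_top : V.1 ≤ ⊤) (le_top : V.1 ≤ ⊤) (gV R ψ V) (jU_gV_T R ψ hψj V) (le_refl V.1) s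

variable (hψs : ψ ≫ b.st = strS R)

include hψs in
theorem muV_st (V : JS R) {Z : S.Opens} (hZ : V.1 ≤ p₀ ⁻¹ᵁ Z) (c : Γ(S, Z)) :
    muV R ψ hψj V (ev b.st (b.T.le_of_le b.st p₀ b.w hZ) c) = ev a.st (a.T.le_of_le a.st p₀ a.w hZ) c := by
  have hst : gV R ψ V ≫ b.st = (a.T.im V.1).ι ≫ a.st := by
    unfold gV
    have hV := isAffineOpen_im a.T V.2.1.1 (le_top : V.1 ≤ ⊤)
    rw [Category.assoc, Category.assoc, hψs, ιS_strS, hV.toSpecΓ_fromSpec_assoc]
  rw [muV_eq]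
  exact appOfHom_st (le_top : V.1 ≤ ⊤) (le_top : V.1 ≤ ⊤) (gV R ψ V) (jU_gV_T R ψ hψj V) hst (le_refl V.1) hZ c

/-- Restriction of rigidifications to opens of `X₀`. -/
def rsS {i : PUnit.{u + 1}} {U : Opens X} (r : R.Rg i U) {V : X₀.Opens} (hV : V ≤ e.opensCongr U) : RgS R i V :=
  R.res ((e.opensCongr.symm_apply_le).2 hV) r

theorem resS_rsS {i : PUnit.{u + 1}} {U : Opens X} (r : R.Rg i U) {V V' : X₀.Opens} (hV : V ≤ e.opensCongr U)
    (h : V' ≤ V) : resS R h (rsS R r hV) = rsS R r (h.trans hV) := R.res_res _ _ r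

variable (hκ : ∀ (V : JS R) (m : Sec M V.1), muV R ψ hψj V (b.κ V.2.1 le_top m) = a.κ V.2.1 le_top m)

include hψs in
/-- The isomorphism attached to a rigidification. -/
noncomputable def twArr {i : PUnit.{u + 1}} {U : Opens X} (r : R.Rg i U) : TArr a b (e.opensCongr U) where
  le_l := le_top
  le_r := le_top
  app {V} hV hU := ((eS R (rsS R r hU) (rg R ⟨V, hV, i, ⟨rsS R r hU⟩⟩)).app hV le_rfl).comp
    (muV R ψ hψj ⟨V, hV, i, ⟨rsS R r hU⟩⟩)
  res_app {V V'} hV hV' hU h' s := by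
    let A : JS R := ⟨V, hV, i, ⟨rsS R r hU⟩⟩
    let A' : JS R := ⟨V', hV', i, ⟨rsS R r (h'.trans hU)⟩⟩
    change (eS R (rsS R r (h'.trans hU)) (rg R A')).app hV' le_rfl
      (muV R ψ hψj A' (resO b.T.X (b.T.im_mono h') s)) = resO a.T.X (a.T.im_mono h')
        ((eS R (rsS R r hU) (rg R A)).app hV le_rfl (muV R ψ hψj A s))
    rw [muV_res R ψ hψj (V := A) (V' := A') h', rhoS_apply,
      ← (eS R (rsS R r hU) (rg R A)).res_app hV hV' le_rfl h']
    have h1 := comp_eS R (rsS R r (h'.trans hU)) (rg R A') (resS R h' (rg R A))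
    have h2 := rs_eS R h' (rsS R r hU) (rg R A)
    rw [resS_rsS, ← h1] at h2
    exact (congrArg (fun θ : TArr a a V' => θ.app hV' le_rfl (resO a.T.X (a.T.im_mono h') (muV R ψ hψj A s))) h2).symm
  π_app {V} hV hU s := by
    rw [RingHom.comp_apply]
    refine ((eS R (rsS R r hU) (rg R ⟨V, hV, i, ⟨rsS R r hU⟩⟩)).π_app hV le_rfl _).trans ?_
    exact π_muV R ψ hψj ⟨V, hV, i, ⟨rsS R r hU⟩⟩ s
  κ_app {V} hV hU m := by
    rw [RingHom.comp_apply]
    have h1 := hκ ⟨V, hV, i, ⟨rsS R r hU⟩⟩ m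
    refine (congrArg ((eS R (rsS R r hU) (rg R ⟨V, hV, i, ⟨rsS R r hU⟩⟩)).app hV le_rfl) h1).trans ?_
    exact (eS R (rsS R r hU) (rg R ⟨V, hV, i, ⟨rsS R r hU⟩⟩)).κ_app hV le_rfl m
  st_app {V} hV hU Z hZ c := by
    rw [RingHom.comp_apply]
    have h1 := muV_st R ψ hψj hψs ⟨V, hV, i, ⟨rsS R r hU⟩⟩ hZ c
    refine (congrArg ((eS R (rsS R r hU) (rg R ⟨V, hV, i, ⟨rsS R r hU⟩⟩)).app hV le_rfl) h1).trans ?_
    exact (eS R (rsS R r hU) (rg R ⟨V, hV, i, ⟨rsS R r hU⟩⟩)).st_app hV le_rfl hZ c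

theorem twArr_app {i : PUnit.{u + 1}} {U : Opens X} (r : R.Rg i U) {V : X₀.Opens} (hV : Sm p₀ V)
    (hU : V ≤ e.opensCongr U) (s : Γ(b.T.X, b.T.im V)) :
    (twArr R ψ hψj hψs hκ r).app hV hU s =
      (eS R (rsS R r hU) (rg R ⟨V, hV, i, ⟨rsS R r hU⟩⟩)).app hV le_rfl
        (muV R ψ hψj ⟨V, hV, i, ⟨rsS R r hU⟩⟩ s) := rfl

/-- The canonical isomorphism over an open of `X₀`. -/
def eR {i j : PUnit.{u + 1}} {U : Opens X} (r : R.Rg i U) (r' : R.Rg j U) : TArr a a (e.opensCongr U) := R.e r r'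

theorem eR_app {i j : PUnit.{u + 1}} {U : Opens X} (r : R.Rg i U) (r' : R.Rg j U) {V : X₀.Opens} (hV : Sm p₀ V)
    (hU : V ≤ e.opensCongr U) (s : Γ(a.T.X, a.T.im V)) :
    (eR R r r').app hV hU s = (eS R (rsS R r hU) (rsS R r' hU)).app hV le_rfl s := by
  have h1 := R.res_e ((e.opensCongr.symm_apply_le).2 hU) r r'
  unfold eS rsS
  rw [← h1]
  rfl

theorem diff_twArr {i : PUnit.{u + 1}} {U : Opens X} (r r' : R.Rg i U) :
    TArr.diff (twArr R ψ hψj hψs hκ r) (twArr R ψ hψj hψs hκ r') =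
      TArr.diff (eR R r r') (TArr.one a le_top) := by
  apply SDer.ext'
  intro V hV hU s
  obtain ⟨t, rfl⟩ := b.surj hV le_top s
  apply a.κ_injective hV le_top
  let A : JS R := ⟨V, hV, i, ⟨rsS R r hU⟩⟩
  let x := muV R ψ hψj A t
  let E := eS R (rsS R r hU) (rg R A)
  let E' := eS R (rsS R r' hU) (rg R A)
  have e1 := TArr.κ_diff (twArr R ψ hψj hψs hκ r) (twArr R ψ hψj hψs hκ r') hV hU t
  have e2 := TArr.κ_diff (eR R r r') (TArr.one a le_top) hV hU (E'.app hV le_rfl x)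
  have e3 : a.T.π (le_top : V ≤ ⊤) (E'.app hV le_rfl x) = b.T.π (le_top : V ≤ ⊤) t :=
    (E'.π_app hV le_rfl x).trans (π_muV R ψ hψj A t)
  have e4 : (eR R r r').app hV hU (E'.app hV le_rfl x) = E.app hV le_rfl x := by
    rw [eR_app]
    have := comp_eS R (rsS R r hU) (rsS R r' hU) (rg R A)
    exact congrArg (fun θ : TArr a a V => θ.app hV le_rfl x) this
  rw [e4, TArr.one_app] at e2
  refine e1.trans (Eq.trans ?_ (e2.symm.trans ?_))
  · rfl
  · exact congrArg (fun z => a.κ hV le_top ((TArr.diff (eR R r r') (TArr.one a le_top)).app hV hU z)) e3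

end gl

end K819
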